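import Cfsg.Agent.SPA6.I3
import Cfsg.Agent.SP7.K4

/-! The homomorphism defined by the transvection candidates. -/

set_option autoImplicit false
set_option linter.unusedSectionVars false
set_option linter.unusedVariables false

namespace Cfsg.Lib.SPA6

open Subgroup Matrix Cfsg.Lib.Trans Cfsg.Lib.Gold Cfsg.Lib.Chev Cfsg.Lib.Known Cfsg.Lib.Class
  Cfsg.Lib.Class.Form Cfsg.Lib.Class.FAut
open Cfsg.Lib.UM6 (tT tE Ot)
open Cfsg.Lib.SP7 (Mo O3 H1 TH T1 T3 G1 G2)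
open Cfsg.Lib.SLA (I SLd Vc Par Md Ind El Fx Inr Ty IsTv ac gr lst z0 e0 f0 U0 P0 Q0 R0 V0 V1)
open scoped commutatorElement

section ID
variable {G F M : Type*} [Group G] [Finite G] [Field F] [Finite F] [AddCommGroup M] [Module F M]
  [FiniteDimensional F M] {B : M →ₗ[F] M →ₗ[F] F} {φ : sIsom B →* G} {t : G} {H A : M → M → G}
  {D : M → G} {β c : F} {d : ℕ} {v : I d → M} {ψ : SLd d F →* G}

theorem I4.orth (h : SB B v) {i j : I d} (k : j ≠ i.rev) : B (v i) (v j) = 0 := by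
  rw [h.form, if_neg k]

theorem I4.res (h : L1 φ t A v ψ) {i j : I d} (k : j ≠ i.rev) (s : F) :
    ψ (slE i j.rev s) = A (s • v i) (v j) := by
  rw [h.res i j.rev (fun e => k (by rw [e, Fin.rev_rev])), Fin.rev_rev]

theorem I4.ne (h : L1 φ t A v ψ) (i : I d) : i ≠ i.rev := fun e => by
  have := h.sb.form i i
  rw [if_pos e, h.alt] at this
  exact zero_ne_one this

theorem L1.z (h : L1 φ t A v ψ) : ψ (z0 d F) = φ (tT B (v 0) 1) := by
  rw [h.resT, ← I4.res h (I4.ne h 0), Fin.rev_zero]; rfl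

theorem L1.v0 (h : L1 φ t A v ψ) : v 0 ≠ 0 := fun e => by
  have := h.sb.form (Fin.rev 0) 0
  rw [if_pos (Fin.rev_rev _).symm, e, map_zero] at this
  exact zero_ne_one this

theorem I4.three (h : L1 φ t A v ψ) : 3 ≤ d := by
  have := h.toMo.three_le
  have := h.dim
  omega

theorem L1.gi (h : L1 φ t A v ψ) : GI ψ t := by
  have d3 := I4.three h
  have hp : Par d F := ⟨h.two, fun e => by omega⟩
  refine ⟨⟨hp, fun e => h.toMo.tT_ne h.v0 one_ne_zero (h.inj ?_)⟩, d3, h.t2, fun x => ?_⟩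
  · rw [← h.z, e, map_one]
  · refine DFunLike.congr_fun (SLA.Md_ext (f := SLA.cx ψ t) (f' := SLA.tw ψ (gr d F))
      fun i j n s => ?_) x
    have k : j.rev ≠ i.rev := fun e => n (Fin.rev_injective e).symm
    have k' : i ≠ j.rev.rev := by rwa [Fin.rev_rev]
    rw [SLA.cx_apply, SLA.tw_apply, hp.gr_slE n, h.res i j n, I4.res h k',
      h.act _ _ (by simp [I4.orth h.sb k]), h.sw _ _ _ (I4.orth h.sb k')]

theorem L1.le (h : L1 φ t A v ψ) : φ.range ≤ ψ.range := by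
  have := h.sb.gen h.toMo (S := ψ.range.comap φ) (fun i j k s => ?_) fun i s => ?_
  · rintro _ ⟨g, rfl⟩
    exact this.ge (mem_top g)
  · have k' : i ≠ j.rev := fun e => k (by rw [e, Fin.rev_rev])
    rw [mem_comap, h.resE _ _ (by simp [I4.orth h.sb k]), ← h.sw _ _ _ (I4.orth h.sb k'),
      ← I4.res h k, ← I4.res h k']
    exact mul_mem ⟨_, rfl⟩ ⟨_, rfl⟩
  · rw [mem_comap, h.resT, ← I4.res h (I4.ne h i)]
    exact ⟨_, rfl⟩

theorem L1.mem (h : L1 φ t A v ψ) {u w : M} (k : B u w = 0) : A u w ∈ ψ.range := by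
  by_cases u0 : u = 0
  · have := h.add1 w 0 0 ⟨map_zero _, map_zero _, map_zero _⟩
    rw [add_zero, left_eq_mul] at this
    rw [u0, this]
    exact one_mem _
  by_cases hw : w ∈ F ∙ u
  · obtain ⟨a, rfl⟩ := Submodule.mem_span_singleton.1 hw
    rw [← h.sw a u u (h.alt u), ← h.resT]
    exact h.le ⟨_, rfl⟩
  have d3 := I4.three h
  have n : (1 : I d) ≠ Fin.rev 0 := by simp [Fin.ext_iff]
  have k0 := I4.orth h.sb n
  obtain ⟨g, rfl, rfl⟩ := h.toMo.tr2 (SP7.P2.iff.2 ⟨k0, h.v0, fun e => by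
    obtain ⟨a, e⟩ := Submodule.mem_span_singleton.1 e
    have := h.sb.form (Fin.rev 1) 1
    rw [if_pos (Fin.rev_rev _).symm, ← e, map_smul,
      I4.orth h.sb (by rw [Fin.rev_rev]; exact zero_ne_one), smul_zero] at this
    exact zero_ne_one this⟩) (SP7.P2.iff.2 ⟨k, u0, hw⟩)
  rw [← h.eqv g _ _ k0, ← one_smul F (v 0), ← I4.res h n]
  exact mul_mem (mul_mem (h.le ⟨_, rfl⟩) ⟨_, rfl⟩) (inv_mem (h.le ⟨_, rfl⟩))

theorem range_eq (h : TH φ t H 1 β) (k : L1 φ t (Ax φ H c) v ψ) : ψ.range = G1 φ H := by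
  refine le_antisymm ?_ (sup_le k.le ((closure_le _).2 ?_))
  · rintro _ ⟨x, rfl⟩
    refine (closure_slE ((G1 φ H).comap ψ) fun i j n s => ?_).ge (mem_top x)
    rw [mem_comap, k.res i j n]
    exact mul_mem (mem_sup_right (subset_closure ⟨_, _, rfl⟩)) (mem_sup_left ⟨_, rfl⟩)
  · rintro _ ⟨u, w, rfl⟩
    by_cases e : B u w = 0
    · exact (Subgroup.mul_mem_cancel_right _ (k.le ⟨_, rfl⟩)).1 (k.mem (h.toMo.swap e))
    · rw [h.junk u w e]
      exact one_mem _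

end ID

end Cfsg.Lib.SPA6
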