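import Cfsg.Agent.SPA6.T
import Cfsg.Agent.SPA6.D2

/-!
# Standard subgroups of type `Sp_{2k}(2ⁿ)`, linear overgroups: the new row and column groups
-/

set_option autoImplicit false
set_option linter.unusedSectionVars false
set_option linter.unusedVariables false

namespace Cfsg.Lib.SPA6

open Subgroup Matrix Cfsg.Lib.Trans Cfsg.Lib.Gold Cfsg.Lib.Chev Cfsg.Lib.Known Cfsg.Lib.Class
  Cfsg.Lib.Class.Form Cfsg.Lib.Class.FAut
open Cfsg.Lib.UM6 (tT tE Ot)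
open Cfsg.Lib.SP7 (Mo O3 H1 TH T1 T3 G1 G2)
open Cfsg.Lib.SLA (I SLd Vc Par Md Ind El Fx Inr Ty IsTv ac gr lst z0 e0 f0 U0 P0 Q0 R0 V0 V1)
open Cfsg.Lib.SG2 (Uq Top)
open scoped commutatorElement

variable {G : Type*} [Group G] [Finite G] {d : ℕ} {F : Type*} [Field F] [Finite F]
  {ψ : SLd d F →* G} {t : G} {c : F} {E : Vc d F → Vc d F → G} {P R : Vc d F → G}

namespace D3

variable {x f y g w a b : Vc d F}

theorem vs (h : Par d F) (x : Vc d F) : x + x = 0 := funext fun i => by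
  simp only [Pi.add_apply, Pi.zero_apply]; linear_combination x i * h.two

theorem rr (x : Vc d F) : (x ∘ Fin.rev) ∘ Fin.rev = x := funext fun i => by simp

theorem Asq (h : Par d F) (k : f ⬝ᵥ x = 0) : ψ (tvS x f) * ψ (tvS x f) = 1 := by
  rw [← map_mul, ← tvS_add_left k k, vs h, tvS_zero_left, map_one]

theorem Ainv (h : Par d F) (k : f ⬝ᵥ x = 0) : (ψ (tvS x f))⁻¹ = ψ (tvS x f) :=
  inv_eq_of_mul_eq_one_right (Asq h k)

theorem Einv (h : DL ψ t c E) (k : Pr x f) : (E x f)⁻¹ = E x f * ψ (tvS x f) :=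
  inv_eq_of_mul_eq_one_right (by rw [← mul_assoc, h.sq _ _ k, Asq h.toPar k.fx])

theorem Einv' (h : DL ψ t c E) (k : Pr x f) : (E x f)⁻¹ = ψ (tvS x f) * E x f :=
  (Einv h k).trans (h.fix k k.fx k.fx k.fx).eq.symm

variable (h : DL ψ t c E) (hP : ∀ w x f, Pr x f → x + w ≠ 0 → f ⬝ᵥ w = 0 →
    E (x + w) f = P w * ψ (tvS w ((c + 1) • f)) * E x f)
include h hP

theorem pe (g : SLd d F) (w : Vc d F) : ψ g * P w * (ψ g)⁻¹ = P (g.1 *ᵥ w) := by
  obtain ⟨x, f, k, h1, -, -, h2, -⟩ := aux h.toPar h.three w w 0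
  have e1 := h.eqv g _ _ ⟨h2, k.f0, by simp [k.fx, h1]⟩
  rw [hP w x f k h2 h1, mulVec_add, hP _ _ _ (k.act g)
    (by rw [← mulVec_add]; exact SL_mulVec_ne_zero g h2)
    ((SL_vecMul_inv_dot_mulVec g f w).trans h1), ← conj_mul, ← conj_mul, h.eqv g _ _ k,
    ← smul_vecMul, ← conj_tvS g (by simp [h1]), map_mul, map_mul, map_inv] at e1
  exact mul_right_cancel (mul_right_cancel e1)

theorem re (g : SLd d F) (f : Vc d F) : ψ g * (t * P (f ∘ Fin.rev) * t⁻¹) * (ψ g)⁻¹ =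
    t * P ((f ᵥ* (g⁻¹).1) ∘ Fin.rev) * t⁻¹ := by
  rw [← gr_mulVec, ← pe h hP, ← h.act g, inv_eq_of_mul_eq_one_right h.t2]
  simp only [_root_.mul_inv_rev, inv_eq_of_mul_eq_one_right h.t2, ← mul_assoc, h.t2, one_mul]
  simp only [mul_assoc, h.t2, mul_one]

theorem cP (h1 : b ⬝ᵥ a = 0) (h2 : b ⬝ᵥ w = 0) : ψ (tvS a b) * P w = P w * ψ (tvS a b) := by
  have := pe h hP (tvS a b) w
  rw [tvS_mulVec h1, h2, zero_smul, add_zero] at this
  exact mul_inv_eq_iff_eq_mul.1 this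

theorem cR (h1 : b ⬝ᵥ a = 0) (h2 : f ⬝ᵥ a = 0) : ψ (tvS a b) * (t * P (f ∘ Fin.rev) * t⁻¹) =
    t * P (f ∘ Fin.rev) * t⁻¹ * ψ (tvS a b) := by
  have := re h hP (tvS a b) f
  rw [tvS_inv h1, vecMul_tvS (by simp [h1]), dotProduct_neg, h2, neg_zero, zero_smul,
    add_zero] at this
  exact mul_inv_eq_iff_eq_mul.1 this

theorem pa (w w' : Vc d F) : P (w + w') = P w * P w' := by
  obtain ⟨x, f, k, h1, h2, -, -, h3, h4, -⟩ := aux h.toPar h.three w w' 0
  have e1 := hP w _ f ⟨h3, k.f0, by simp [k.fx, h2]⟩ h4 h1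
  rw [hP w' x f k h3 h2, add_assoc, add_comm w', hP _ x f k (by rwa [add_comm w, ← add_assoc])
    (by simp [h1, h2]), tvS_add_left (by simp [h1]) (by simp [h2]), map_mul, ← mul_assoc,
    ← mul_assoc, ← mul_assoc, mul_assoc (P w), cP h hP (by simp [h1]) (by simp [h2]),
    ← mul_assoc] at e1
  exact mul_right_cancel (mul_right_cancel (mul_right_cancel e1))

theorem pi (w : Vc d F) : (P w)⁻¹ = P w := by
  have := pa h hP 0 0
  rw [add_zero, left_eq_mul] at this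
  exact inv_eq_of_mul_eq_one_right (by rw [← pa h hP, vs h.toPar, this])

theorem rI (k : Pr y g) (h1 : g + f ≠ 0) (h2 : f ⬝ᵥ y = 0) : (E y (g + f))⁻¹ =
    t * P (f ∘ Fin.rev) * t⁻¹ * ψ (tvS ((c + 1) • y) f) * (E y g)⁻¹ := by
  have k' : Pr y (g + f) := ⟨k.x0, h1, by simp [k.fx, h2]⟩
  have e1 := h.tD _ _ k'.rev
  have e2 := h.tD _ _ k.rev
  have e3 : (y ∘ Fin.rev) ⬝ᵥ (f ∘ Fin.rev) = 0 := (dot_rev _ _).trans h2
  rw [rr, rr] at e1 e2
  rw [← e1, ← e2, show (g + f) ∘ Fin.rev = g ∘ Fin.rev + f ∘ Fin.rev from rfl,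
    hP (f ∘ Fin.rev) _ _ k.rev k'.rev.x0 e3, ← conj_mul, ← conj_mul, h.act, gr_tvS h.toPar (by simp [e3]), rr,
    show ((c + 1) • y ∘ Fin.rev) ∘ Fin.rev = (c + 1) • (y ∘ Fin.rev) ∘ Fin.rev from rfl, rr]

theorem rR (k : Pr y g) (h1 : g + f ≠ 0) (h2 : f ⬝ᵥ y = 0) : E y (g + f) =
    E y g * (t * P (f ∘ Fin.rev) * t⁻¹) * ψ (tvS ((c + 1) • y) f) := by
  rw [← inv_inv (E y (g + f)), rI h hP k h1 h2, _root_.mul_inv_rev, _root_.mul_inv_rev, inv_inv,
    Ainv h.toPar (by simp [h2]), conj_inv, pi h hP, cR h hP (by simp [h2]) (by simp [h2]),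
    ← mul_assoc]

theorem rL (k : Pr y g) (h1 : g + f ≠ 0) (h2 : f ⬝ᵥ y = 0) : E y (g + f) =
    t * P (f ∘ Fin.rev) * t⁻¹ * ψ (tvS (c • y) f) * E y g := by
  have k' : Pr y (g + f) := ⟨k.x0, h1, by simp [k.fx, h2]⟩
  have e := rI h hP k h1 h2
  have s : tvS y (g + f) * tvS ((c + 1) • y) f * tvS y g = tvS (c • y) f := by
    refine SL_ext_mulVec fun u => ?_
    simp (disch := simp [k.fx, h2]) only [SLA.mul_mulVec, tvS_mulVec]
    simp only [add_dotProduct, dotProduct_add, dotProduct_smul, k.fx, h2, smul_zero, add_zero]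
    linear_combination (norm := module) (g ⬝ᵥ u + f ⬝ᵥ u) • vs h.toPar y
  rw [Einv' h k', Einv' h k, ← Ainv h.toPar k'.fx, inv_mul_eq_iff_eq_mul] at e
  rw [e, ← s, map_mul, map_mul, ← mul_assoc, ← mul_assoc, ← mul_assoc, cR h hP k'.fx h2]
  simp only [mul_assoc]

theorem pR (k : Pr x f) (h1 : x + w ≠ 0) (h2 : f ⬝ᵥ w = 0) :
    E (x + w) f = E x f * P w * ψ (tvS w (c • f)) := by
  have k' : Pr (x + w) f := ⟨h1, k.f0, by simp [k.fx, h2]⟩
  have e := congrArg (·⁻¹) (hP w x f k h1 h2)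
  have s : tvS x f * tvS w ((c + 1) • f) * tvS (x + w) f = tvS w (c • f) := by
    refine SL_ext_mulVec fun u => ?_
    simp (disch := simp [k.fx, h2]) only [SLA.mul_mulVec, tvS_mulVec]
    simp only [smul_dotProduct, dotProduct_add, dotProduct_smul, k.fx, h2, smul_zero, add_zero]
    linear_combination (norm := module) (f ⬝ᵥ u) • vs h.toPar (x + w)
  simp only [_root_.mul_inv_rev] at e
  rw [Einv h k', Einv h k, ← Ainv h.toPar k'.fx, mul_inv_eq_iff_eq_mul,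
    Ainv h.toPar (by simp [h2]), pi h hP, cP h hP (by simp [h2]) (by simp [h2]), mul_assoc (E x f),
    ← mul_assoc (ψ _), cP h hP k.fx h2] at e
  rw [e, ← s, map_mul, map_mul]
  simp only [mul_assoc]

theorem pr (w g : Vc d F) (k0 : g ⬝ᵥ w = 0) : P w * (t * P (g ∘ Fin.rev) * t⁻¹) =
    ψ (tvS w g) * (t * P (g ∘ Fin.rev) * t⁻¹) * P w := by
  obtain ⟨x, f, k, h1, -, h2, h3, -, -, h4⟩ := aux h.toPar h.three w w g
  have e := hP w x (f + g) ⟨k.x0, h4, by simp [k.fx, h2]⟩ h3 (by simp [h1, k0])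
  have s : tvS (c • (x + w)) g * tvS w ((c + 1) • f) =
      tvS w g * (tvS w ((c + 1) • (f + g)) * tvS (c • x) g) := by
    refine SL_ext_mulVec fun u => ?_
    simp (disch := simp [h1, h2, k0]) only [SLA.mul_mulVec, tvS_mulVec]
    simp only [smul_dotProduct, add_dotProduct, dotProduct_add, dotProduct_smul, k.fx, h2, h1, k0,
      smul_zero, add_zero]
    linear_combination (norm := module) (-(g ⬝ᵥ u)) • vs h.toPar w
  rw [rL h hP k h4 h2, rL h hP ⟨h3, k.f0, by simp [k.fx, h1]⟩ h4 (by simp [h2, k0]),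
    hP w x f k h3 h1] at e
  have c1 := cP h hP (a := c • (x + w)) (b := g) (w := w) (by simp [h2, k0]) k0
  have c2 := cR h hP (a := w) (b := (c + 1) • (f + g)) (f := g) (by simp [h1, k0]) k0
  rw [cR h hP k0 k0, mul_assoc _ _ (P w), cP h hP k0 k0]
  generalize t * P (g ∘ Fin.rev) * t⁻¹ = r at e c2 ⊢
  have e2 : r * P w * ψ (tvS (c • (x + w)) g * tvS w ((c + 1) • f)) =
      P w * r * ψ (tvS w ((c + 1) • (f + g)) * tvS (c • x) g) := by
    refine mul_right_cancel (b := E x f) ?_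
    rw [map_mul, map_mul, mul_assoc r, ← mul_assoc (P w), ← c1, mul_assoc (P w) r,
      ← mul_assoc r (ψ _) (ψ _), ← c2]
    simpa only [mul_assoc] using e
  rw [s, map_mul, ← mul_assoc] at e2
  rw [← mul_right_cancel e2, mul_assoc]

end D3

theorem DL.pr (h : DL ψ t c E) (hP : ∀ w x f, Pr x f → x + w ≠ 0 → f ⬝ᵥ w = 0 →
    E (x + w) f = P w * ψ (tvS w ((c + 1) • f)) * E x f) :
    PR ψ t P fun f => t * P (f ∘ Fin.rev) * t⁻¹ where
  toGI := h.toGI
  pe := D3.pe h hP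
  re := D3.re h hP
  pa := D3.pa h hP
  ra := fun f f' => by
    rw [conj_mul, ← D3.pa h hP]; rfl
  pr := D3.pr h hP
  tP := fun w => by rw [D3.rr]

theorem DL.dec (h : DL ψ t c E) (hP : ∀ w x f, Pr x f → x + w ≠ 0 → f ⬝ᵥ w = 0 →
    E (x + w) f = P w * ψ (tvS w ((c + 1) • f)) * E x f) {y g : Vc d F} (k : Pr y g) :
    E y g = t * P (g ∘ Fin.rev) * t⁻¹ * P y * ψ (tvS y (c • g)) := by
  obtain ⟨x, f, n⟩ := k.ext h.three
  obtain ⟨k1, -, -, k2, n1, n2⟩ := n.pr h.toPar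
  have e := h.add _ _ _ _ n
  have s : tvS ((c + 1) • x) g * tvS y (c • (f + g)) =
      tvS y (c • g) * (tvS x ((c + 1) • g) * tvS y (c • f)) := by
    refine SL_ext_mulVec fun u => ?_
    simp (disch := simp [n.gx, n.fy, n.gy]) only [SLA.mul_mulVec, tvS_mulVec]
    simp only [smul_dotProduct, add_dotProduct, dotProduct_add, dotProduct_smul, n.gx, n.gy,
      smul_zero, add_zero]
    module
  rw [D3.pR h hP k2 n1 (by simp [n.fy, n.gy]), D3.rR h hP k1 n2 n.gx, mul_assoc _ _ (P y),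
    D3.cP h hP (by simp [n.gx]) n.gy] at e
  simp only [mul_assoc, mul_right_inj] at e
  rw [← map_mul, ← map_mul, s, map_mul] at e
  simp only [← mul_assoc] at e ⊢
  exact (mul_right_cancel e).symm

end Cfsg.Lib.SPA6
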