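import Cfsg.Agent.SPA6.Defs

/-!
# The Steinberg relations on `2k + 1` indices
-/

set_option autoImplicit false
set_option linter.unusedSectionVars false
set_option linter.unusedVariables false

namespace Cfsg.Lib.SPA6

open Subgroup Matrix Cfsg.Lib.Trans Cfsg.Lib.Gold Cfsg.Lib.Chev Cfsg.Lib.Known Cfsg.Lib.Class
  Cfsg.Lib.Class.Form Cfsg.Lib.Class.FAut
open Cfsg.Lib.SLA (I SLd Vc Par Md Ind gr lst z0)
open scoped commutatorElement

section Ext
variable {G : Type*} [Group G] [Finite G] {d : ℕ} {F : Type*} [Field F] [Finite F]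
  {ψ : SLd d F →* G} {t : G} {c : F} {E : Vc d F → Vc d F → G} {P R : Vc d F → G}

namespace D4

theorem mv {a b : I d} (hab : a ≠ b) (s : F) (v : Vc d F) :
    (slE a b s : SLd d F).1 *ᵥ v = v + Pi.single a (s * v b) := slv_slE hab s v

theorem vm {a b : I d} (hab : a ≠ b) (s : F) (v : Vc d F) :
    v ᵥ* (slE a b s : SLd d F).1 = v + Pi.single b (v a * s) := by
  rw [coe_slE hab, vecMul_add, vecMul_one]
  congr 1
  ext j
  by_cases h : j = b
  · subst h; simp [vecMul, dotProduct, single_apply]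
  · simp [vecMul, dotProduct, single_apply, h, Ne.symm h]

theorem srev (i : I d) (s : F) : (Pi.single i s : Vc d F) ∘ Fin.rev = Pi.single i.rev s := by
  ext j
  simp only [Function.comp, Pi.single_apply, Fin.rev_eq_iff]

theorem pc (h : PR ψ t P R) (w w' : Vc d F) : Commute (P w) (P w') := by
  rw [Commute, SemiconjBy, ← h.pa, ← h.pa, add_comm]

theorem rc (h : PR ψ t P R) (w w' : Vc d F) : Commute (R w) (R w') := by
  rw [Commute, SemiconjBy, ← h.ra, ← h.ra, add_comm]

theorem xp (h : PR ψ t P R) {a b : I d} (hab : a ≠ b) (s : F) (w : Vc d F) :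
    ψ (slE a b s) * P w = P (w + Pi.single a (s * w b)) * ψ (slE a b s) := by
  rw [← mv hab, ← h.pe]; group

theorem rx (h : PR ψ t P R) {a b : I d} (hab : a ≠ b) (s : F) (f : Vc d F) :
    R f * ψ (slE a b s) = ψ (slE a b s) * R (f + Pi.single b (f a * s)) := by
  have := h.re (slE a b s)⁻¹ f
  rw [inv_inv, vm hab] at this
  rw [← this, map_inv]; group

theorem xp0 (h : PR ψ t P R) {a b c : I d} (hab : a ≠ b) (hbc : b ≠ c) (s u : F) :
    Commute (ψ (slE a b s)) (P (Pi.single c u)) := by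
  have := xp h hab s (Pi.single c u)
  rwa [Pi.single_eq_of_ne hbc, mul_zero, Pi.single_zero, add_zero] at this

theorem rx0 (h : PR ψ t P R) {a b c : I d} (hab : a ≠ b) (hac : a ≠ c) (s u : F) :
    Commute (R (Pi.single c u)) (ψ (slE a b s)) := by
  have := rx h hab s (Pi.single c u)
  rwa [Pi.single_eq_of_ne hac, zero_mul, Pi.single_zero, add_zero] at this

theorem stO (h : PR ψ t P R) {e : Option (I d) → Option (I d) → F → G}
    (e1 : ∀ i j s, e (some i) (some j) s = ψ (slE i j s))
    (e2 : ∀ i s, e (some i) none s = P (Pi.single i s))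
    (e3 : ∀ j s, e none (some j) s = R (Pi.single j s)) : StA e where
  add a b hab s u := by
    rcases a with _ | a <;> rcases b with _ | b
    · exact absurd rfl hab
    · rw [e3, e3, e3, ← h.ra, ← Pi.single_add]
    · rw [e2, e2, e2, ← h.pa, ← Pi.single_add]
    · rw [e1, e1, e1]
      exact (stA_slE.map ψ).add a b (fun k => hab (congrArg _ k)) s u
  comm a b c h1 h2 h3 s u := by
    rcases a with _ | a <;> rcases b with _ | b <;> rcases c with _ | c <;>
      try first | exact absurd rfl h1 | exact absurd rfl h2 | exact absurd rfl h3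
    · have k : b ≠ c := fun k => h2 (congrArg _ k)
      rw [e3, e3, e1, rx h k, Pi.single_eq_same, add_comm (Pi.single b s : Vc d F), h.ra,
        (rx0 h k k u (s * u)).eq, mul_assoc]
    · have k : a ≠ c := fun k => h3 (congrArg _ k)
      have k0 : (Pi.single c u : Vc d F) ⬝ᵥ Pi.single a 1 = 0 := by simp [k, k.symm]
      have k1 : (Pi.single a s : Vc d F) = s • Pi.single a 1 := by rw [← Pi.single_smul]; simp
      have k2 : (Pi.single c (s * u) : Vc d F) = s • Pi.single c u := by
        rw [← Pi.single_smul]; simp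
      rw [e3, e2, e1, h.pr _ _ (by simp [k, k.symm]), SLA.slE_eq_tvS k, k2, ← tvS_smul_left _ k0, ← k1]
    · have k : a ≠ b := fun k => h1 (congrArg _ k)
      rw [e2, e2, e1, xp h k, Pi.single_eq_same, add_comm (Pi.single b u : Vc d F), h.pa]
    · rw [e1, e1, e1]
      exact (stA_slE.map ψ).comm a b c (fun k => h1 (congrArg _ k)) (fun k => h2 (congrArg _ k))
        (fun k => h3 (congrArg _ k)) s u
  commute a b c c' h1 h2 h3 h4 s u := by
    have n : ∀ {x y : I d}, some x ≠ some y → x ≠ y := fun k k' => k (congrArg _ k')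
    rcases a with _ | a <;> rcases b with _ | b <;> rcases c with _ | c <;> rcases c' with _ | c' <;>
      try first | exact absurd rfl h1 | exact absurd rfl h2 | exact absurd rfl h3 | exact absurd rfl h4
    · rw [e3, e3]; exact rc h _ _
    · rw [e3, e1]; exact rx0 h (n h2) (n h3).symm _ _
    · rw [e2, e2]; exact pc h _ _
    · rw [e2, e1]; exact (xp0 h (n h2) (n h4).symm _ _).symm
    · rw [e1, e3]; exact (rx0 h (n h1) (n h4) _ _).symm
    · rw [e1, e2]; exact xp0 h (n h1) (n h3) _ _
    · rw [e1, e1]; exact (stA_slE.map ψ).commute a b c c' (n h1) (n h2) (n h3) (n h4) s u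

theorem actO (h : PR ψ t P R) {e : Option (I d) → Option (I d) → F → G}
    (e1 : ∀ i j s, e (some i) (some j) s = ψ (slE i j s))
    (e2 : ∀ i s, e (some i) none s = P (Pi.single i s))
    (e3 : ∀ j s, e none (some j) s = R (Pi.single j s)) (a b : Option (I d)) (hab : a ≠ b) (s : F) :
    t * e a b s * t⁻¹ = e (b.map Fin.rev) (a.map Fin.rev) s := by
  rcases a with _ | a <;> rcases b with _ | b
  · exact absurd rfl hab
  · have := h.tP (Pi.single b.rev s)
    rw [srev, Fin.rev_rev] at this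
    rw [Option.map_some, Option.map_none, e3, e2, ← this]
    calc _ = (t * t) * P (Pi.single b.rev s) * (t * t)⁻¹ := by group
      _ = _ := by rw [h.t2]; simp
  · rw [Option.map_some, Option.map_none, e3, e2, h.tP, srev]
  · rw [Option.map_some, Option.map_some, e1, e1, h.act,
      h.toPar.gr_slE fun k => hab (congrArg _ k)]

theorem memP {H : Subgroup G} {P : Vc d F → G} (pa : ∀ w w', P (w + w') = P w * P w')
    (k : ∀ i s, P (Pi.single i s) ∈ H) (w : Vc d F) : P w ∈ H := by
  induction w using Pi.single_induction with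
  | zero => simpa using k 0 0
  | add f g hf hg => rw [pa]; exact mul_mem hf hg
  | single i m => exact k i m

end D4

theorem PR.hom (h : PR ψ t P R) (hd : Odd d) : ∃ ψ' : SLd (d + 1) F →* G, GI ψ' t ∧
    ψ'.range = ψ.range ⊔ closure (Set.range P ∪ Set.range R) := by
  obtain ⟨e, e1, e2, e3⟩ : ∃ e : Option (I d) → Option (I d) → F → G,
      (∀ i j s, e (some i) (some j) s = ψ (slE i j s)) ∧
      (∀ i s, e (some i) none s = P (Pi.single i s)) ∧
      ∀ j s, e none (some j) s = R (Pi.single j s) :=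
    ⟨fun a b s => a.elim (b.elim 1 fun j => R (Pi.single j s))
      fun i => b.elim (P (Pi.single i s)) fun j => ψ (slE i j s),
      fun _ _ _ => rfl, fun _ _ => rfl, fun _ _ => rfl⟩
  obtain ⟨k, hk⟩ := hd
  obtain ⟨m, hm⟩ : ∃ m : I (d + 1), m.val = k + 2 := ⟨⟨k + 2, by omega⟩, rfl⟩
  have mr : m.rev = m := Fin.ext (by rw [Fin.val_rev]; omega)
  have m0 : m ≠ 0 := fun e => by simp [e] at hm
  have ml : m ≠ Fin.last (d + 2 + 1) := fun e => by
    have := congrArg Fin.val e
    rw [Fin.val_last] at this; omega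
  obtain ⟨E, E1, E2⟩ : ∃ E : I (d + 1) ≃ Option (I d), E m = none ∧ ∀ j, E (m.succAbove j) = some j :=
    ⟨finSuccEquiv' m, finSuccEquiv'_at m, finSuccEquiv'_succAbove m⟩
  have Er : ∀ a, E a.rev = (E a).map Fin.rev := fun a => by
    rcases Fin.eq_self_or_eq_succAbove m a with rfl | ⟨j, rfl⟩
    · rw [mr, E1]; rfl
    · rw [Fin.rev_succAbove, mr, E2, E2]; rfl
  obtain ⟨ψ', hψ⟩ := stA_exists_hom ((D4.stO h e1 e2 e3).comp E.injective) (by simp)
  have par : Par (d + 1) F := ⟨h.two, fun k => absurd h.three (by omega)⟩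
  have r1 : ∀ i j, i ≠ j → ∀ s, ψ' (slE (m.succAbove i) (m.succAbove j) s) = ψ (slE i j s) :=
    fun i j hij s => by rw [hψ _ _ _ (Fin.succAbove_right_injective.ne hij), E2, E2, e1]
  have r2 : ∀ i s, ψ' (slE (m.succAbove i) m s) = P (Pi.single i s) :=
    fun i s => by rw [hψ _ _ _ (Fin.succAbove_ne m i), E2, E1, e2]
  have r3 : ∀ i s, ψ' (slE m (m.succAbove i) s) = R (Pi.single i s) :=
    fun i s => by rw [hψ _ _ _ (Fin.succAbove_ne m i).symm, E2, E1, e3]
  refine ⟨ψ', ⟨⟨par, ?_⟩, by have := h.three; omega, h.t2, fun x => ?_⟩, le_antisymm ?_ ?_⟩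
  · have := r1 0 (lst d) SLA.zero_ne_lst 1
    rw [Fin.succAbove_ne_zero_zero m0, Fin.succAbove_ne_last_last ml] at this
    exact fun k => h.ne (this.symm.trans k)
  · have := SLA.Md_ext (f := SLA.cx ψ' t) (f' := SLA.tw ψ' (gr (d + 1) F)) fun a b hab s => by
      rw [SLA.cx_apply, SLA.tw_apply, par.gr_slE hab, hψ _ _ _ hab,
        hψ _ _ _ (Fin.rev_injective.ne hab.symm), Er, Er, D4.actO h e1 e2 e3 _ _ (E.injective.ne hab)]
    exact DFunLike.congr_fun this x
  · rw [MonoidHom.range_eq_map, map_le_iff_le_comap, top_le_iff]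
    refine closure_slE _ fun a b hab s => ?_
    rw [mem_comap]
    rcases Fin.eq_self_or_eq_succAbove m a with ha | ⟨i, rfl⟩ <;>
      rcases Fin.eq_self_or_eq_succAbove m b with hb | ⟨j, rfl⟩
    · exact absurd (ha.trans hb.symm) hab
    · rw [ha, r3]; exact mem_sup_right (subset_closure (.inr ⟨_, rfl⟩))
    · rw [hb, r2]; exact mem_sup_right (subset_closure (.inl ⟨_, rfl⟩))
    · rw [r1 _ _ fun k => hab (congrArg _ k)]; exact mem_sup_left ⟨_, rfl⟩
  · refine sup_le ?_ ((closure_le _).2 ?_)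
    · rw [MonoidHom.range_eq_map ψ, map_le_iff_le_comap, top_le_iff]
      exact closure_slE _ fun a b hab s => ⟨_, r1 a b hab s⟩
    · rintro _ (⟨w, rfl⟩ | ⟨w, rfl⟩)
      · exact D4.memP (H := ψ'.range) h.pa (fun i s => ⟨_, r2 i s⟩) w
      · exact D4.memP (H := ψ'.range) h.ra (fun i s => ⟨_, r3 i s⟩) w

end Ext

end Cfsg.Lib.SPA6
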