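import Cfsg.Agent.SPA6.Defs
import Cfsg.Agent.Known.PresStA

/-!
# Standard subgroups of type `Sp_{2k}(2ⁿ)`: Steinberg relations for the linear overgroup
-/

set_option autoImplicit false
set_option linter.unusedSectionVars false
set_option linter.unusedVariables false

namespace Cfsg.Lib.SPA6

open Subgroup Matrix Cfsg.Lib.Trans Cfsg.Lib.Gold Cfsg.Lib.Chev Cfsg.Lib.Known Cfsg.Lib.Class
  Cfsg.Lib.Class.Form Cfsg.Lib.Class.FAut
open Cfsg.Lib.UM6 (tT tE Ot)
open Cfsg.Lib.SP7 (Mo O3 H1 TH T1 T3 G1 G2)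
open Cfsg.Lib.SLA (I SLd Vc Par Md Ind El Fx Inr Ty IsTv ac gr lst z0 e0 f0 U0 P0 Q0 R0 V0 V1)
open scoped commutatorElement

variable {G F M : Type*} [Group G] [Finite G] [Field F] [Finite F] [AddCommGroup M] [Module F M]
  [FiniteDimensional F M] {B : M →ₗ[F] M →ₗ[F] F} {φ : sIsom B →* G} {t : G} {H A : M → M → G}
  {D : M → G} {β c : F} {d : ℕ} {v : I d → M} {ψ : SLd d F →* G}

namespace I2

variable {u w x y : M}

/-- `u`, `w` are orthogonal and `x`, `y` are orthogonal to both. -/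
structure Gm (B : M →ₗ[F] M →ₗ[F] F) (u w x y : M) : Prop extends O3 B u w x where
  uy : B u y = 0
  wy : B w y = 0

theorem zero1 (h : HA φ t A) (w : M) : A 0 w = 1 := by
  have := h.add1 w 0 0 ⟨by simp, by simp, by simp⟩
  rw [add_zero] at this
  exact mul_eq_left.1 this.symm

theorem sq (h : HA φ t A) (k : B u w = 0) : A u w * A u w = 1 := by
  rw [← h.add1 w u u ⟨h.toMo.swap k, h.toMo.swap k, h.toMo.alt u⟩, h.toMo.vadd_self, zero1 h]

theorem flip (h : HA φ t A) (k : B u x = 0) (k' : B w y = 0) (c : Commute (A u x) (A w y)) :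
    Commute (A x u) (A y w) := by
  rw [← h.act u x k, ← h.act w y k']
  exact c.map (MulAut.conj t)

theorem rr (h : HA φ t A) (k : Gm B u w x y) (c : Commute (A x u) (A y w)) :
    A u x * A y w * (A u x)⁻¹ = A y w * A (B x y • u) w := by
  have m := h.toMo
  rw [eq_mul_inv_of_mul_eq (h.resE u x k.ux).symm, mul_assoc _ (A x u)⁻¹, c.inv_left.eq,
    show ∀ a b c : G, a * (b * c⁻¹) * (a * c⁻¹)⁻¹ = a * b * a⁻¹ from fun a b c => by group,
    h.eqv _ y w (m.swap k.wy), m.lin_tE k.ux, m.lin_tE k.ux, k.uy, k.uw, m.swap k.wx]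
  simp only [zero_smul, add_zero]
  exact h.add1 w y _ ⟨k.wy, by simp [m.swap k.uw], by simp [m.swap k.uy]⟩

theorem cc (h : HA φ t A) (k : Gm B u w x y) : Commute (A u x) (A w y) :=
  h.cc u w x y k.toO3 k.uy k.wy

theorem cc' (h : HA φ t A) (k : Gm B u w x y) : Commute (A x u) (A y w) :=
  flip h k.ux k.wy (cc h k)

theorem stA (h : HA φ t A) {ι : Type*} [DecidableEq ι] (v : ι → M) (s : ι → ι) (ss : ∀ a, s (s a) = a)
    (ns : ∀ a, s a ≠ a) (hv : ∀ a b, B (v a) (v b) = if b = s a then 1 else 0)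
    (hp : ∀ a b, ∃ p, p ≠ a ∧ p ≠ s a ∧ p ≠ b ∧ p ≠ s b) :
    StA fun (i j : ι) (c : F) => A (c • v i) (v (s j)) := by
  have m := h.toMo
  have o : ∀ a b, b ≠ s a → B (v a) (v b) = 0 := fun a b n => by rw [hv, if_neg n]
  have o0 : ∀ a, B (v a) (v a) = 0 := fun a => o a a (ns a).symm
  obtain ⟨X, hX⟩ : ∃ X : ι → ι → F → G, ∀ i j c, X i j c = A (c • v i) (v (s j)) := ⟨_, fun _ _ _ => rfl⟩
  have i2 : ∀ a b (c : F), a ≠ b → B (c • v a) (v (s b)) = 0 := fun a b c n => by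
    simp [o a (s b) (by grind)]
  have cu : ∀ a b c d, a ≠ b → c ≠ d → b ≠ c → a ≠ d → c ≠ s a → ∀ p q,
      Commute (X a b p) (X c d q) := fun a b c d h1 h2 h3 h4 h5 p q => by
    rw [hX, hX]
    exact cc h ⟨⟨by simp [o a c h5], i2 a b p h1, i2 c b q h3.symm⟩, i2 a d p h4, i2 c d q h2⟩
  have cw : ∀ a b c d, a ≠ b → c ≠ d → b ≠ c → a ≠ d → d ≠ s b → ∀ p q,
      Commute (X a b p) (X c d q) := fun a b c d h1 h2 h3 h4 h5 p q => by
    rw [hX, hX]
    exact cc' h ⟨⟨o _ _ (by grind), m.swap (i2 a b p h1), m.swap (i2 a d p h4)⟩,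
      m.swap (i2 c b q h3.symm), m.swap (i2 c d q h2)⟩
  have r0 : ∀ a b c, a ≠ b → b ≠ c → a ≠ c → b ≠ s a → c ≠ s b → ∀ p q,
      X a b p * X b c q * (X a b p)⁻¹ = X b c q * X a c (p * q) := fun a b c h1 h2 h3 h4 h5 p q => by
    have k : Gm B (p • v a) (v (s c)) (v (s b)) (q • v b) :=
      ⟨⟨i2 a c p h3, i2 a b p h1, o _ _ (by grind)⟩, by simp [o a b h4], m.swap (i2 b c q h2)⟩
    rw [hX, hX, hX, rr h k (cc' h k), map_smul, hv, if_pos (ss b).symm, smul_eq_mul, mul_one,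
      smul_smul, mul_comm]
  have com : ∀ a b c d, a ≠ b → c ≠ d → b ≠ c → a ≠ d → ∀ p q,
      Commute (X a b p) (X c d q) := fun a b c d h1 h2 h3 h4 p q => by
    by_cases e : c = s a
    · by_cases e' : d = s b
      · obtain ⟨z, z1, z2, z3, z4⟩ := hp a b
        have r := r0 a z b z1.symm z3 h1 z2 (by grind) p 1
        have c1 := cw a z c d z1.symm h2 (e ▸ z2) h4 (by grind) p q
        have c2 := cu z b c d z3 h2 h3 (e' ▸ z4) (by grind) 1 q
        rw [mul_one, ← inv_mul_eq_iff_eq_mul] at r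
        rw [← r]
        exact c2.inv_left.mul_left ((c1.mul_left c2).mul_left c1.inv_left)
      · exact cw a b c d h1 h2 h3 h4 e' p q
    · exact cu a b c d h1 h2 h3 h4 e p q
  have r1 : ∀ a c, s a ≠ c → a ≠ c → ∀ p q,
      X a (s a) p * X (s a) c q * (X a (s a) p)⁻¹ = X (s a) c q * X a c (p * q) :=
    fun a c h2 h3 p q => by
    obtain ⟨z, z1, z2, z3, z4⟩ := hp a c
    have r := r0 a z (s a) z1.symm z2 (ns a).symm z2 (by grind) p 1
    have e1 := (com a z (s a) c z1.symm h2 z2 h3 p q).eq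
    have e2 := r0 z (s a) c z2 h2 z3 (by grind) (by grind) 1 q
    have e3 := r0 a z c z1.symm z3 h3 z2 (by grind) p q
    have e4 := (com z (s a) a c z2 h3 (ns a) z3 1 (p * q)).eq
    rw [mul_one, ← inv_mul_eq_iff_eq_mul] at r
    rw [one_mul] at e2
    rw [← r]
    generalize X a z p = α at *
    generalize X z (s a) 1 = β at *
    generalize X (s a) c q = χ at *
    calc _ = β⁻¹ * (α * (β * (α⁻¹ * (χ * α)) * β⁻¹) * α⁻¹) * β := by group
      _ = β⁻¹ * (α * χ * α⁻¹ * (α * X z c q * α⁻¹)) * β := by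
        rw [← e1, inv_mul_cancel_left, e2]; group
      _ = β⁻¹ * (χ * X z c q) * (X a c (p * q) * β) := by
        rw [e3, e1]; group
      _ = _ := by rw [← e2, ← e4]; group
  have tw : ∀ a b p, a ≠ b → t * X a b p * t⁻¹ = X (s b) (s a) p := fun a b p n => by
    rw [hX, hX, h.act _ _ (i2 a b p n), ss, h.sw _ _ _ (o _ _ (by grind))]
  have r : ∀ a b c, a ≠ b → b ≠ c → a ≠ c → ∀ p q,
      X a b p * X b c q * (X a b p)⁻¹ = X b c q * X a c (p * q) := fun a b c h1 h2 h3 p q => by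
    by_cases e : b = s a
    · subst e; exact r1 a c h2 h3 p q
    by_cases e' : c = s b
    · subst e'
      refine (MulAut.conj t).injective ?_
      simp only [map_mul, map_inv, MulAut.conj_apply, tw _ _ _ h1, tw _ _ _ h2, tw _ _ _ h3, ss]
      have e1 := r1 b (s a) (by grind) e q p
      have e2 := (com b (s b) b (s a) h2 e (ns b) e q (q * p)).eq
      have e3 : X (s b) (s a) p * X (s b) (s a) p = 1 := by
        rw [hX]; exact sq h (i2 _ _ _ (by grind))
      rw [mul_comm p, e2, ← inv_mul_eq_iff_eq_mul.2 e1, inv_eq_of_mul_eq_one_right e3]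
      group
    · exact r0 a b c h1 h2 h3 e e' p q
  simp only [← hX]
  refine ⟨fun a b n p q => ?_, fun a b c h1 h2 h3 p q => ?_, com⟩
  · rw [hX, hX, hX, add_smul]
    exact (h.add1 _ _ _ ⟨m.swap (i2 a b p n), m.swap (i2 a b q n), by simp [o0]⟩).symm
  · rw [(com a c b c h3 h2 h2.symm h3 _ _).eq, ← r a b c h1 h2 h3, inv_mul_cancel_right]

end I2

theorem HA.stA (h : HA φ t A) (hv : SB B v) (hd : d + 3 = 2 * UM6.kk F M) :
    StA fun (i j : I d) (s : F) => A (s • v i) (v j.rev) := by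
  have h3 := h.toMo.three_le
  refine I2.stA h v Fin.rev Fin.rev_rev (fun a e => ?_) hv.form fun a b => ?_
  · have := congrArg Fin.val e
    rw [Fin.val_rev] at this
    omega
  · by_contra! n
    have h1 : (Finset.univ : Finset (I d)) ⊆ {a, a.rev, b, b.rev} := fun p _ => by
      have := n p
      simp only [Finset.mem_insert, Finset.mem_singleton]
      tauto
    have h2 := (Finset.card_le_card h1).trans Finset.card_le_four
    rw [Finset.card_univ, Fintype.card_fin] at h2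
    omega

theorem HA.l1 (h : HA φ t A) (hv : SB B v) (hd : d + 3 = 2 * UM6.kk F M) :
    ∃ ψ : SLd d F →* G, L1 φ t A v ψ :=
  let ⟨ψ, k⟩ := stA_exists_hom (h.stA hv hd) (by simp)
  ⟨ψ, h, hv, hd, fun i j n s => k i j s n⟩

end Cfsg.Lib.SPA6
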