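import Cfsg.Agent.SPA6.I1
import Cfsg.Agent.SPA6.I2
import Cfsg.Agent.SPA6.I3
import Cfsg.Agent.SPA6.I4
import Cfsg.Agent.SPA6.I5
import Cfsg.Agent.SPA6.T
import Cfsg.Agent.SPA6.D1
import Cfsg.Agent.SPA6.D2
import Cfsg.Agent.SPA6.D3
import Cfsg.Agent.SPA6.D4
import Cfsg.Agent.SP7.K4

/-!
# Standard subgroups of type `Sp_{2k}(2ⁿ)`: the linear ends
-/

set_option autoImplicit false
set_option linter.unusedSectionVars false
set_option linter.unusedVariables false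

namespace Cfsg.Lib.SPA6

open Subgroup Matrix Cfsg.Lib.Trans Cfsg.Lib.Gold Cfsg.Lib.Chev Cfsg.Lib.Known Cfsg.Lib.Class
  Cfsg.Lib.Class.Form Cfsg.Lib.Class.FAut
open Cfsg.Lib.UM6 (tT tE Ot)
open Cfsg.Lib.SP7 (Mo O3 H1 TH T1 T3 G1 G2)
open Cfsg.Lib.SLA (I SLd Vc Par Md Ind El Fx Inr Ty IsTv ac gr lst z0 e0 f0 U0 P0 Q0 R0 V0 V1)
open scoped commutatorElement

variable {G F M : Type*} [Group G] [Finite G] [Field F] [Finite F] [AddCommGroup M] [Module F M]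
  [FiniteDimensional F M] {B : M →ₗ[F] M →ₗ[F] F} {φ : sIsom B →* G} {t : G} {H : M → M → G}
  {D : M → G} {β c : F}

theorem D5.setup (h : TH φ t H 1 β) (hc : c * c + c = β) :
    ∃ (d : ℕ) (v : I d → M) (ψ : SLd d F →* G), L1 φ t (Ax φ H c) v ψ := by
  have hd : 2 * UM6.kk F M - 3 + 3 = 2 * UM6.kk F M := by have := h.toMo.three_le; omega
  obtain ⟨v, hv⟩ := exists_SB h.toMo hd
  obtain ⟨ψ, k⟩ := (ha h hc).l1 hv hd
  exact ⟨_, v, ψ, k⟩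

theorem el1 (h : T1 φ t H β) (hc : c * c + c = β) :
    ∃ (d : ℕ) (ψ : SLd d F →* G), d + 3 = 2 * UM6.kk F M ∧ EL ψ t (UM6.kk F M) := by
  obtain ⟨d, v, ψ, k⟩ := D5.setup h.toTH hc
  have e := range_eq h.toTH k
  exact ⟨d, ψ, k.dim, mk_el h.toH1 k.gi k.le (e ▸ cO1 h.toTH) (e ▸ nL1 h.toTH) (.inl k.dim)
    fun _ => k.z ▸ h.nb _ k.v0⟩

theorem el3 (h : T3 φ t H D β) (hc : c * c + c = β) :
    ∃ (d : ℕ) (ψ : SLd d F →* G), d + 3 = 2 * UM6.kk F M + 1 ∧ EL ψ t (UM6.kk F M) := by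
  obtain ⟨d, v, ψ, k⟩ := D5.setup h.toTH hc
  have e := range_eq h.toTH k
  have hd := k.dim
  obtain ⟨E, hE, E0, hx⟩ := exists_DL h k
  obtain ⟨P, hP⟩ := hE.exists_P
  obtain ⟨ψ', k', e'⟩ := (hE.pr hP).hom (Nat.odd_iff.2 (by omega))
  have m1 : ∀ g, ψ g ∈ G2 φ H D := fun g => mem_sup_left (e.le ⟨g, rfl⟩)
  have m2 : ∀ x f, Pr x f → E x f ∈ G2 φ H D := fun x f p => by
    obtain ⟨g, hg⟩ := hx x f p
    rw [hg]
    exact mul_mem (mul_mem (m1 g) (mem_sup_right (subset_closure ⟨_, rfl⟩))) (inv_mem (m1 g))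
  have m3 : ∀ w, P w ∈ G2 φ H D := fun w => by
    obtain ⟨x, f, p, h1, -, -, h2, -⟩ := aux hE.toPar hE.three w w 0
    have := m2 (x + w) f ⟨h2, p.f0, by rw [dotProduct_add, p.fx, h1, add_zero]⟩
    rw [hP w x f p h2 h1] at this
    simpa using mul_mem (mul_mem this (inv_mem (m2 x f p))) (inv_mem (m1 (tvS w ((c + 1) • f))))
  have e2 : ψ'.range = G2 φ H D := by
    have l1 : ψ.range ≤ ψ'.range := e' ▸ le_sup_left
    refine le_antisymm (e' ▸ sup_le (e ▸ le_sup_left) ((closure_le _).2 ?_))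
      (sup_le (e ▸ l1) ((closure_le _).2 ?_))
    · rintro _ (⟨w, rfl⟩ | ⟨f, rfl⟩)
      · exact m3 w
      · exact (mem_normalizer_iff.1 (nL2 h (mem_C1.2 rfl)) _).1 (m3 _)
    · rintro _ ⟨u, rfl⟩
      by_cases u0 : u = 0
      · rw [u0, h.d0]; exact one_mem _
      obtain ⟨g, rfl⟩ := h.toMo.tr1 k.v0 u0
      have m4 : φ g ∈ ψ'.range := l1 (k.le ⟨g, rfl⟩)
      rw [← h.deqv, ← E0, hE.dec hP pr0]
      refine mul_mem (mul_mem m4 (mul_mem (mul_mem ?_ ?_) (l1 ⟨_, rfl⟩))) (inv_mem m4)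
      · exact e' ▸ mem_sup_right (subset_closure (.inr ⟨_, rfl⟩))
      · exact e' ▸ mem_sup_right (subset_closure (.inl ⟨_, rfl⟩))
  have hd' : d + 1 + 3 = 2 * UM6.kk F M + 1 := by omega
  exact ⟨d + 1, ψ', hd', mk_el h.toH1 k' (k.le.trans (e' ▸ le_sup_left)) (e2 ▸ cO2 h) (e2 ▸ nL2 h)
    (.inr hd') fun o => absurd (Nat.odd_iff.1 o) (by omega)⟩

end Cfsg.Lib.SPA6
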