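import Cfsg.Agent.SPA6.E1
import Cfsg.Agent.SPA6.ZU
import Cfsg.Agent.SLA.EFf

/-! The linear end: fusion of `t`, the Sylow subgroup, the case `q ≥ 4`. -/

set_option autoImplicit false
set_option linter.unusedSectionVars false
set_option linter.unusedVariables false

namespace Cfsg.Lib.SPA6

open Subgroup Matrix Cfsg.Lib.Trans Cfsg.Lib.Gold Cfsg.Lib.Chev Cfsg.Lib.Known Cfsg.Lib.Class
open Cfsg.Lib.SLA
open Cfsg.Lib.SLA.EFa
open Cfsg.Lib.SG2 (Uq Top)
open scoped commutatorElement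

variable {G : Type*} [Group G] [Finite G] {d k : ℕ} {F : Type*} [Field F] [Finite F]
  {ψ : SLd d F →* G} {t : G} {X : Subgroup G}

theorem EL.uq (h : EL ψ t k) : Uq (Ns ψ.range) t := by
  intro g hg
  have md := h.toMd
  have t2 := Comp.conj_sq h.t2 g
  have hP := md.toPar
  have b2 := ac_sq md hg t2
  have k3 : 3 ≤ k := by have := h.three; have := h.dim; omega
  have kd : 2 * k ≤ d + 3 := by have := h.dim; omega
  obtain ⟨σ, ε, -, e⟩ := ex md hg
  have zs : ¬ ∃ Y ≤ Fx (ac ψ (g * t * g⁻¹)), ⁅Y, Y⁆ = Y ∧ ∃ y ∈ Y, y ∉ center (SLd d F) ∧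
      (orderOf y).Coprime (spOrd (Nat.card F) k) := by
    rintro ⟨Y, h1, h2, y, hy, y1, y2⟩
    have h3 := h.perf g (Y.map ψ) (by rw [← map_commutator, h2]) ((map_mono h1).trans (md.map_Fx hg))
    exact y1 (md.ker_le (orderOf_eq_one_iff.1 (Nat.eq_one_of_dvd_coprimes y2 (orderOf_map_dvd ψ y)
      ((orderOf_dvd_natCard _ (mem_map_of_mem ψ hy)).trans h3))))
  have q2 := hP.two_le
  by_cases hσ : σ = 1
  · subst hσ
    cases ε
    · obtain ⟨l, l2, hl⟩ := (e.inr hP (Comp.Tw.of_sq b2)).lift2 hP b2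
      obtain ⟨w, hw⟩ : ∃ w, w * l * w⁻¹ ∈ A0 d F := by
        by_cases l1 : l = 1
        · exact ⟨1, by simp [l1]⟩
        obtain ⟨r, w, -, h2, h3⟩ := hP.inv_nf l2 l1
        exact ⟨w, h3 ▸ (vr_mem_B0 h2).1⟩
      have h1 : El (cj w⁻¹ (A0 d F)) := (hP.el_AW _).map _
      have h2 := h.rank g _ (h1.map ψ) ((map_mono fun x hx => mem_Fx.2 (by
        rw [hl, MulAut.conj_apply, h1.comm (mem_cj_inv.2 hw) hx, mul_inv_cancel_right])).trans
          (md.map_Fx hg))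
      rw [md.card h1.two, card_cj, A0, Aj, mx_A0.card, mx] at h2
      have h3 : k * (k + 1) / 2 + 1 < kk d * kl d := by
        have e1 : kk d = k := by have := h.dim; rw [kk]; omega
        have e2 : k ≤ kl d := e1 ▸ kk_le_kl
        have e3 : k * (k + 1) / 2 + 1 < k * k := by
          have : k * (k + 1) / 2 < k * k - 1 := (Nat.div_lt_iff_lt_mul two_pos).2 (by
            have : 3 * k ≤ k * k := Nat.mul_le_mul_right k k3
            have : k * (k + 1) = k * k + k := by ring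
            omega)
          omega
        rw [e1]
        exact e3.trans_le (Nat.mul_le_mul_left k e2)
      have h4 := Nat.pow_lt_pow_right q2 h3
      rw [pow_succ] at h4
      nlinarith [Nat.pow_pos (n := k * (k + 1) / 2) (show 0 < Nat.card F by omega)]
    obtain ⟨c, hc, e'⟩ := h.conj_t ⟨hg, e⟩ (isConj_iff.2 ⟨g, rfl⟩)
    exact (mul_mem_cancel_left ((sup_le KC_le (zpowers_le.2 (mul_mem h.toGI.th.mem hg)) :) hc)).1
      (h.nL (mem_C1.2 (by
        conv_rhs => rw [← e']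
        group)))
  cases ε
  · exact (zs (zs_field hP k3 kd b2 e hσ)).elim
  · exact (zs (zs_gf hP k3 kd b2 e hσ)).elim

theorem EL.notX (h : EL ψ t k) (hX : Top X t) : t ∉ X := by
  intro ht
  have md := h.toMd
  have tt := h.toGI.th
  have ex := fun m hm => ex (m := m) md hm
  have hT : X = ⊤ := by rw [← hX.top, sup_eq_left.2 (zpowers_le.2 ht)]
  obtain ⟨S, hS, hSt⟩ := exists_isSylowIn_ge (Comp.Tw.of_sq h.t2).isPGroup (le_top (a := zpowers t))
  have hM : S ≤ Ns ψ.range := h.uq.two_le tt.mem hS.isPGroup (hSt (mem_zpowers t))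
  let T : Subgroup G :=
    { carrier := {x | ∃ σ, Th ψ x σ false}
      one_mem' := ⟨_, Th.one md⟩
      mul_mem' := fun ⟨_, a⟩ ⟨_, b⟩ => ⟨_, by simpa using a.mul md b⟩
      inv_mem' := fun ⟨_, a⟩ => ⟨_, a.inv md⟩ }
  have k : ∀ u ∈ S, u ∉ T → ∃ σ, Th ψ u σ true := fun u hu un => by
    obtain ⟨σ, ε, e⟩ := ex u (hM hu)
    cases ε
    · exact (un ⟨σ, e⟩).elim
    · exact ⟨σ, e⟩
  obtain ⟨a, h1, ⟨ε, h2⟩, -⟩ := thompson_transfer_involution (H := S) (T := T)
    (by simpa using hS.not_dvd) (fun u hu v hv => ⟨_, Th.comm md (hM hu) (hM hv)⟩)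
    (fun u hu => by
      obtain ⟨k, hk⟩ := Comp.Tw.of_mem hS.isPGroup hu
      exact ⟨k, by rw [hk]; exact one_mem _⟩)
    t (Bender.orderOf_eq_two h.t1 h.t2)
    (fun u hu v hv u2 v2 un vn => by
      obtain ⟨_, h1⟩ := k u hu un
      obtain ⟨_, h2⟩ := k v hv vn
      exact ⟨_, h1.mul md h2⟩)
    (mem_sup_left (by rw [_root_.commutator_def, ← hT, hX.perf]; exact ht)) ⊥ IsPGroup.of_bot
    (fun r hr => by rw [mem_bot.1 hr, one_mul, mul_one])
  have := tt.conj md (h.uq a⁻¹ (by rw [_root_.inv_inv]; exact hM h1))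
  rw [_root_.inv_inv] at this
  exact absurd (this.uniq md h2).2 (by decide)

theorem E2.KC (h : EL ψ t k) (hX : Top X t) : ψ.range ⊔ Cs ψ.range ≤ X :=
  sup_le (top_le hX h.toMd.perf) fun _ hc => top_odd_mem hX h.t2 (odd_orderOf_of_mem hc h.odd)

theorem E2.root (h : EL ψ t k) (hX : Top X t) {m : G} (hm : m ∈ X) {σ : F ≃+* F} {b : Bool}
    (hσ : Th ψ m σ b) : b = false ∧ ∃ m' ∈ X, ∃ σ' b', Th ψ m' σ' b' ∧ σ' * σ' = σ := by
  have md := h.toMd
  have ac : ∀ σ σ' : F ≃+* F, σ * σ' = σ' * σ := ringAut_mul_comm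
  have mul0 : ∀ {m m' σ σ' b}, Th ψ m σ b → Th ψ m' σ' b → Th ψ (m * m') (σ * σ') false :=
    fun h1 h2 => by simpa using h1.mul md h2
  let N : Subgroup G :=
    { carrier := {m | ∃ m' ∈ X, ∃ σ b, Th ψ m' σ b ∧ Th ψ m (σ * σ) false}
      one_mem' := ⟨1, X.one_mem, 1, false, Th.one md, by rw [mul_one]; exact Th.one md⟩
      mul_mem' := by
        rintro _ _ ⟨m, hm, σ, b, h1, h2⟩ ⟨m', hm', σ', b', h1', h2'⟩
        refine ⟨_, X.mul_mem hm hm', _, _, h1.mul md h1', ?_⟩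
        rw [mul_assoc, ← mul_assoc σ', ac σ' σ, mul_assoc, ← mul_assoc]
        exact mul0 h2 h2'
      inv_mem' := by
        rintro _ ⟨m, hm, σ, b, h1, h2⟩
        exact ⟨_, X.inv_mem hm, _, _, h1.inv md, by
          rw [← _root_.mul_inv_rev]; exact h2.inv md⟩ }
  have tt := h.toGI.th
  have hu := tt.conj md hσ.mem
  obtain ⟨c, hc, e⟩ := h.conj_t hu (isConj_iff.2 ⟨m, rfl⟩)
  have k1 : c ∈ X := (sup_le (E2.KC h hX) (zpowers_le.2 (by
    have := top_comm hX t m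
    rw [commutatorElement_def, inv_eq_of_sq h.t2] at this
    simpa [mul_assoc] using this)) : _ ⊔ zpowers (t * (m * t * m⁻¹)) ≤ X) hc
  have k2 : Th ψ c 1 false := Th.zp md (by simpa using mul0 tt hu) hc
  obtain ⟨m', hm', σ', b', h1, h2⟩ := SU4.uft (N := N) hX h.t2 (h.notX hX) tt.mem h.uq
    (fun a ha c hc => ⟨1, X.one_mem, 1, false, Th.one md, by
      rw [mul_one]; exact Th.comm md ha.1 hc.1⟩)
    (fun a ha hn => by
      obtain ⟨ρ, c, h1⟩ := ex md ha
      refine ⟨_, (top_mem hX h.t2 a).resolve_left hn, _, _, h1.mul md tt, ?_⟩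
      rw [mul_one]
      exact mul0 h1 h1)
    (show c * m ∈ X ⊓ C1 t from ⟨mul_mem k1 hm, mem_C1.2 (by
      conv_rhs => rw [← e]
      group)⟩)
  have := (k2.mul md hσ).uniq md h2
  rw [one_mul, Bool.false_xor] at this
  exact ⟨this.2, m', hm', σ', b', h1, this.1.symm⟩

theorem EL.two_mem (h : EL ψ t k) (hX : Top X t) {g : G} (hg : g ∈ X ⊓ Ns ψ.range)
    (h2 : Comp.Tw g) : g ∈ ψ.range := by
  have md := h.toMd
  have : Finite (F ≃+* F) := DFunLike.finite _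
  let S := {σ : F ≃+* F // ∃ m ∈ X, ∃ b, Th ψ m σ b}
  let f : S → S := fun σ => ⟨σ.1 * σ.1, by
    obtain ⟨m, hm, b, e⟩ := σ.2
    exact ⟨_, mul_mem hm hm, _, e.mul md e⟩⟩
  have hf : Function.Injective f := Finite.injective_iff_surjective.2 fun ⟨σ, m, hm, b, h1⟩ => by
    obtain ⟨-, m', hm', σ', b', h2, e⟩ := E2.root h hX hm h1
    exact ⟨⟨σ', m', hm', b', h2⟩, Subtype.ext e⟩
  have key : ∀ k : ℕ, ∀ m ∈ X, m ^ 2 ^ k = 1 → ∀ σ b, Th ψ m σ b → σ = 1 := by
    intro k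
    induction k with
    | zero =>
      intro m _ e σ b h1
      rw [pow_zero, pow_one] at e
      rw [e] at h1
      exact (h1.uniq md (Th.one md)).1
    | succ k ih =>
      intro m hm e σ b h1
      have := ih _ (mul_mem hm hm) (by rwa [← pow_two, ← pow_mul, ← pow_succ']) _ _ (h1.mul md h1)
      exact congrArg Subtype.val (hf (a₁ := ⟨σ, m, hm, b, h1⟩)
        (a₂ := ⟨1, 1, X.one_mem, false, Th.one md⟩) (Subtype.ext (this.trans (mul_one 1).symm)))
  obtain ⟨σ, b, hσ⟩ := ex md hg.2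
  have h3 := md.ac_two hg.2 h2
  obtain ⟨k, hk⟩ := h2
  obtain rfl := key k g hg.1 hk σ b hσ
  obtain rfl := (E2.root h hX hg.1 hσ).1
  obtain ⟨l, hl, c, hc, rfl⟩ := (SG2.mem_sup_Cs (le_Cs_comm.1 le_rfl)).1
    ((md.inr_iff hg.2).1 (hσ.ty.inr md.toPar h3))
  have hlc : Commute l c := mem_Cs.1 hc l hl
  refine mem_of_pow_mem_of_coprime (n := orderOf c) ?_ ?_
  · rw [hlc.mul_pow, pow_orderOf_eq_one, mul_one]
    exact pow_mem hl _
  · exact ((odd_iff_coprime.1 (odd_orderOf_of_mem hc h.odd)).pow_right k).coprime_dvd_right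
      (orderOf_dvd_of_pow_eq_one hk)

theorem EL.syl (h : EL ψ t k) (hX : Top X t) : IsSylowIn 2 ((U0 d F).map ψ) X := by
  have hs := h.toMd.syl
  have le := top_le hX h.toMd.perf
  obtain ⟨P, hP, -⟩ := exists_isSylowIn_ge hs.isPGroup (hs.le.trans le)
  obtain ⟨c, -, hc⟩ := h.uq.conj_le h.toGI.th.mem h.t2 (Y := ⊤) trivial hP.isPGroup le_top
  have h1 : cj c P ≤ ψ.range := fun g hg => h.two_mem hX
    ⟨cj_le_iff.2 (fun p hp => hX.normal.conj_mem _ (hP.le hp) c) hg, hc hg⟩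
    (Comp.Tw.of_mem (isPGroup_cj hP.isPGroup c) hg)
  refine hP.of_card_ge hs.isPGroup (hs.le.trans le) ?_
  rw [← card_cj c P]
  exact hs.card_le (isPGroup_cj hP.isPGroup c) h1

theorem EL.iso4 (h : EL ψ t k) (hX : Top X t) (h4 : 4 ≤ Nat.card F) :
    Nonempty (X ≃* ProjectiveSpecialLinearGroup (Fin (d + 3)) F) := by
  have md := h.toMd
  have le := top_le hX md.perf
  have hP := md.toPar
  have hS := h.syl hX
  have hπ : Md (QuotientGroup.mk' (center (SLd d F))) := Md.of_ne hP ⟨z0 d F, fun e =>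
    z0_ne (hP.center_two ((QuotientGroup.eq_one_iff _).1 e) (Comp.Tw.of_sq hP.z0_sq))⟩
  obtain ⟨P, e⟩ := (QuotientGroup.range_mk' (center (SLd d F)) ▸ hπ.syl).exists_sylow_eq
  obtain ⟨e1⟩ := EFf.equiv md
  obtain ⟨e2⟩ := EFf.equiv hπ
  obtain ⟨n, n1, hn⟩ := hP.pow
  have := hX.simple
  have := Fintype.ofFinite F
  have hA : (A0 d F).map ψ ≤ X := (map_le_range _ _).trans le
  have el : El ((A0 d F).map ψ) := (hP.el_AW _).map ψ
  refine Cfsg.Agent.S1769.result (fun c => ?_) n (by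
      by_contra c
      obtain rfl : n = 1 := by omega
      omega)
    (by rw [← Nat.card_eq_fintype_card, hn]) (d + 3) (by omega) hS.toSylow P
    ⟨((subgroupOfEquivOfLe hS.le).trans e1.symm).trans (e2.trans (MulEquiv.subgroupCongr e.symm))⟩
  have h1 := c (((A0 d F).map ψ).subgroupOf X)
    ⟨⟨fun a b => Subtype.ext (Subtype.ext (el.comm a.2 b.2))⟩⟩
    fun a ha => Subtype.ext (by simpa [sq] using el _ ha)
  have h2 := hP.mx_ge
  rw [Nat.card_congr (subgroupOfEquivOfLe hA).toEquiv, A0, Aj,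
    md.card (hP.el_AW _).two, mx_A0.card] at h1
  omega

end Cfsg.Lib.SPA6
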