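import Cfsg.Agent.SPA6.Defs
import Cfsg.Agent.SLA.PV
import Cfsg.Agent.SLA.CONN

/-!
# `SL_N(2)`: basic facts
-/

set_option autoImplicit false
set_option linter.unusedSectionVars false
set_option linter.unusedVariables false

namespace Cfsg.Lib.SPA6

open Subgroup Matrix Cfsg.Lib.Trans Cfsg.Lib.Gold Cfsg.Lib.Chev Cfsg.Lib.Known Cfsg.Lib.Class
open Cfsg.Lib.SLA (I SLd Vc Par Md Ind El Fx Inr Ty IsTv ac gr lst z0 e0 f0 U0 P0 Q0 R0 V0 V1)
open scoped commutatorElement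

section Q2
variable {d : ℕ} {F : Type*} [Field F] [Finite F] {v b : SLd d F} {N : Subgroup (SLd d F)}

theorem Q1.ne : (0 : I d) ≠ lst d := by simp [Fin.ext_iff]

theorem center_bot (h : ∀ c : F, c = 0 ∨ c = 1) : center (SLd d F) = ⊥ := by
  refine (eq_bot_iff_forall _).2 fun x hx => ?_
  obtain ⟨r, h1, h2⟩ := Matrix.SpecialLinearGroup.mem_center_iff.1 hx
  rcases h r with rfl | rfl
  · rw [zero_pow (by simp)] at h1
    exact absurd h1 zero_ne_one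
  · exact Subtype.ext (by rw [← h2, map_one]; rfl)

theorem P2.mem_R (h : P2 d F) : v ∈ R0 d F ↔ v = 1 ∨ v = z0 d F := by
  refine (SLA.mem_Rt Q1.ne).trans ⟨?_, ?_⟩
  · rintro ⟨s, rfl⟩
    rcases h.q2 s with rfl | rfl
    exacts [.inl ((slE_eq_one_iff Q1.ne).2 rfl), .inr rfl]
  · rintro (rfl | rfl)
    exacts [⟨0, ((slE_eq_one_iff Q1.ne).2 rfl).symm⟩, ⟨1, rfl⟩]

theorem P2.C1_eq (h : P2 d F) : C1 (z0 d F) = P0 d F := by
  refine le_antisymm (fun x hx => ?_) SLA.P_le_C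
  obtain ⟨c, c0, h1, h2⟩ := SLA.mem_C1_z0.1 hx
  rw [(h.q2 c).resolve_left c0, one_smul] at h1 h2
  exact ⟨h1, h2⟩

theorem P2.cQ (h : P2 d F) : ⁅Q0 d F, Q0 d F⁆ = R0 d F := by
  refine le_antisymm h.toPar.comm_Q fun x hx => ?_
  rcases h.mem_R.1 hx with rfl | rfl
  · exact one_mem _
  · have := SLA.slE_comm (d := d) (a := 0) (b := 1) (c := lst d) (by simp [Fin.ext_iff])
      (by simp [Fin.ext_iff]) Q1.ne (1 : F) 1
    rw [mul_one] at this
    rw [z0, ← this]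
    exact commutator_mem_commutator
      (mem_sup_left (SLA.slE_mem_Aj (j := 1) (by simp) (by simp) _))
      (mem_sup_right (SLA.slE_mem_Aj (j := d + 2) (by simp) (by simp) _))

theorem P2.k3 (h : P2 d F) (hv : v ∈ U0 d F) (h1 : IsTv v) (h2 : IsTv (v * z0 d F)) : v ∈ Q0 d F := by
  rw [mem_centralizer_singleton_iff.1 (SLA.P_le_C (SLA.U_le_P hv))] at h2
  exact (h.toPar.nb h1 h2).elim mem_sup_left mem_sup_right

theorem P2.tvV (h : P2 d F) (hv : v ∈ V0 d F ∨ v ∈ V1 d F) (h1 : v ∉ R0 d F) :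
    IsTv v ∧ IsTv (v * z0 d F) := by
  have z : z0 d F ∈ R0 d F := h.mem_R.2 (.inr rfl)
  refine ⟨SLA.isTv_of_V hv fun k => h1 (k ▸ one_mem _), SLA.isTv_of_V
    (hv.imp (mul_mem · (SLA.R0_le_V0 z)) (mul_mem · (SLA.R0_le_V1 z))) fun k => h1 ?_⟩
  exact (mul_mem_cancel_right z).1 (k ▸ one_mem _)

theorem P2.gQ (h : P2 d F) :
    Q0 d F ≤ closure {v | v ∈ Q0 d F ∧ IsTv v ∧ IsTv (v * z0 d F)} ⊔ R0 d F := by
  refine sup_le (fun x hx => ?_) fun x hx => ?_ <;> by_cases k : x ∈ R0 d F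
  · exact mem_sup_right k
  · exact mem_sup_left (subset_closure ⟨mem_sup_left hx, h.tvV (.inl hx) k⟩)
  · exact mem_sup_right k
  · exact mem_sup_left (subset_closure ⟨mem_sup_right hx, h.tvV (.inr hx) k⟩)

theorem P2.hT (h : P2 d F) : ∃ v : SLd d F, v * v = 1 ∧ v ∉ U0 d F := by
  refine ⟨slE (lst d) 0 1, h.toPar.slE_sq Q1.ne.symm 1, fun k => ?_⟩
  have := SLA.PF_St0.1 (SLA.U_le_P k).1 (lst d)
  rw [slE_eq Q1.ne.symm] at this
  simp [Matrix.SpecialLinearGroup.transvection, transvection] at this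

theorem P2.fixP (h : P2 d F) {β : MulAut (SLd d F)} (e : β (z0 d F) = z0 d F) :
    SLA.mp β (P0 d F) = P0 d F ∧ SLA.mp β (Q0 d F) = Q0 d F := by
  have e1 : SLA.mp β (P0 d F) = P0 d F := SLA.mp_eq_of_le fun x hx => by
    rw [← h.C1_eq] at hx ⊢
    refine mem_centralizer_singleton_iff.2 ?_
    conv_lhs => rw [← e]
    rw [← map_mul, mem_centralizer_singleton_iff.1 hx, map_mul, e]
  refine ⟨e1, SLA.mp_eq_of_le fun x hx => h.toPar.O2_P (D := SLA.mp β (Q0 d F))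
    (e1 ▸ map_mono (SLA.Q_le_U.trans SLA.U_le_P)) (fun g hg => ?_)
    ((h.toPar.U_syl.isPGroup.to_le SLA.Q_le_U).map _) ⟨x, hx, rfl⟩⟩
  obtain ⟨g, hg', rfl⟩ := e1.ge hg
  refine mem_normalizer_fintype ?_
  rintro _ ⟨y, hy, rfl⟩
  exact ⟨g * y * g⁻¹, mem_normalizer_conj (SLA.PV_C_Q (SLA.P_le_C hg')) hy, by simp⟩

theorem P2.cls (h : P2 d F) (e : v * v = 1) : ∃ l, gr d F (l * v * l⁻¹) = l * v * l⁻¹ := by
  by_cases v1 : v = 1
  · exact ⟨1, by simp [v1]⟩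
  obtain ⟨r, l, -, hr, k⟩ := h.toPar.inv_nf e v1
  refine ⟨l, k ▸ Subtype.ext (Matrix.ext fun i j => ?_)⟩
  rw [SLA.PF_gr, inv_eq_of_mul_eq_one_right (h.toPar.vr_sq hr)]
  have a1 := SLA.vr_sub_one (F := F) hr i j
  have a2 := SLA.vr_sub_one (F := F) hr j.rev i.rev
  have hi := i.2
  have hj := j.2
  have hk : r ≤ d + 3 := hr.trans (Nat.div_le_self _ _)
  rw [Matrix.sub_apply, sub_eq_iff_eq_add] at a1 a2
  rw [a1, a2]
  congr 1
  · exact if_congr (by simp only [Fin.val_rev]; omega) rfl rfl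
  · simp only [Matrix.one_apply, Fin.rev_inj, eq_comm]

end Q2

end Cfsg.Lib.SPA6
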