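import Cfsg.Agent.SPA6.Defs
import Cfsg.Agent.SLA.PF

/-! # `P0 / Q0` is simple over the field with two elements -/

set_option autoImplicit false
set_option linter.unusedSectionVars false
set_option linter.unusedVariables false

namespace Cfsg.Lib.SPA6

open Subgroup Matrix Cfsg.Lib.Trans Cfsg.Lib.Gold Cfsg.Lib.Chev Cfsg.Lib.Known Cfsg.Lib.Class
  Cfsg.Lib.Class.Form Cfsg.Lib.Class.FAut
open Cfsg.Lib.UM6 (tT tE Ot)
open Cfsg.Lib.SP7 (Mo O3 H1 TH T1 T3 G1 G2)
open Cfsg.Lib.SLA (I SLd Vc Par Md Ind El Fx Inr Ty IsTv ac gr lst z0 e0 f0 U0 P0 Q0 R0 V0 V1)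
open scoped commutatorElement

variable {d : ℕ} {F : Type*} [Field F] [Finite F] {v b : SLd d F} {N : Subgroup (SLd d F)}

theorem P2.qs (h : P2 d F) (h1 : Q0 d F ≤ N) (h2 : N ≤ P0 d F) (h3 : P0 d F ≤ Ns N) :
    N = Q0 d F ∨ N = P0 d F := by
  classical
  let P : Matrix (I d) {a : I d // Mi a} F := (1 : Matrix (I d) (I d) F).submatrix id Subtype.val
  let Q : Matrix {a : I d // Mi a} (I d) F := (1 : Matrix (I d) (I d) F).submatrix Subtype.val id
  have e : Q * P = 1 := by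
    rw [← submatrix_mul _ _ _ _ _ Function.bijective_id, Matrix.mul_one,
      submatrix_one _ Subtype.val_injective]
  have k : ∀ a b : {a : I d // Mi a}, a ≠ b → ∀ s : F,
      cornerSL P Q e (slE a b s) = slE a.1 b.1 s := fun a b n s => Subtype.ext (by
    have n' : a.1 ≠ b.1 := fun x => n (Subtype.ext x)
    rw [coe_cornerSL, coe_slE n, coe_slE n', add_sub_cancel_left]
    congr 1
    ext i j
    rw [mul_apply, Finset.sum_eq_single b (fun y _ hy => by
      rw [mul_single_apply_of_ne _ _ _ _ _ hy, zero_mul]) (by simp), mul_single_apply_same]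
    simp only [P, Q, submatrix_apply, id, one_apply, single, of_apply]
    by_cases c1 : i = a.1 <;> by_cases c2 : b.1 = j <;> simp [c1, c2, eq_comm])
  have r1 : ∀ x, cornerSL P Q e x ∈ P0 d F := fun x =>
    (closure_slE ((P0 d F).comap (cornerSL P Q e)) fun a b n s => mem_comap.2 (by
      have n' : a.1 ≠ b.1 := fun x => n (Subtype.ext x)
      rw [k a b n]
      exact ⟨SLA.slE_mem_St0 n' b.2.1 s, SLA.slE_mem_St1 n' a.2.2 s⟩)).ge (mem_top x)
  have r2 : ∀ p ∈ P0 d F, ∃ x ∈ Q0 d F, ∃ y ∈ Q0 d F, ∃ s, cornerSL P Q e s = y * (p * x) := by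
    intro p hp
    obtain ⟨x, hx, y, hy, e1⟩ := SLA.PF_dec hp
    exact ⟨x, mem_sup_left hx, y, mem_sup_right hy, SLA.PF_gen Mi (cornerSL P Q e).range
      (fun a b n ha hb s => ⟨_, k ⟨a, ha⟩ ⟨b, hb⟩ (fun x => n (congrArg Subtype.val x)) s⟩) e1⟩
  have hc : 3 ≤ Fintype.card {a : I d // Mi a} := by
    have := h.three
    have k1 : ∀ i : Fin 3, Mi (⟨i.1 + 1, by omega⟩ : I d) := fun i =>
      ⟨fun e => Nat.succ_ne_zero _ (congrArg Fin.val e), fun e => by
        have : i.1 + 1 = d + 2 := congrArg Fin.val e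
        omega⟩
    simpa using Fintype.card_le_of_injective (fun i : Fin 3 => (⟨_, k1 i⟩ : {a : I d // Mi a}))
      fun i j e => by simpa [Fin.ext_iff] using e
  have qs : IsQuasisimple (SpecialLinearGroup {a : I d // Mi a} F) :=
    ⟨⟨SL_commutator_eq_top hc⟩, PSL_isSimpleGroup hc⟩
  have hn : (N.comap (cornerSL P Q e)).Normal := ⟨fun n hn g => mem_comap.2 (by
    rw [map_mul, map_mul, map_inv]
    exact (mem_normalizer_iff.1 (h3 (r1 g)) _).1 hn)⟩
  rcases IsQuasisimple.eq_top_or_le_center qs _ hn with t | t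
  · refine Or.inr (le_antisymm h2 fun p hp => ?_)
    obtain ⟨x, hx, y, hy, s, e1⟩ := r2 p hp
    have : y * (p * x) ∈ N := e1 ▸ mem_comap.1 (t.ge (mem_top s))
    exact (mul_mem_cancel_right (h1 hx)).1 ((mul_mem_cancel_left (h1 hy)).1 this)
  · refine Or.inl (le_antisymm (fun p hp => ?_) h1)
    obtain ⟨x, hx, y, hy, s, e1⟩ := r2 p (h2 hp)
    obtain ⟨r, r1, r2⟩ := Matrix.SpecialLinearGroup.mem_center_iff.1
      (t (mem_comap.2 (e1 ▸ mul_mem (h1 hy) (mul_mem hp (h1 hx)))))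
    have r3 : r = 1 := (h.q2 r).resolve_left fun r0 => by
      rw [r0, zero_pow (by omega)] at r1
      exact zero_ne_one r1
    have r4 : s = 1 := Subtype.ext (by rw [← r2, r3, map_one]; rfl)
    rw [r4, map_one] at e1
    exact (mul_mem_cancel_right hx).1 ((mul_mem_cancel_left hy).1 (e1 ▸ one_mem _))

end Cfsg.Lib.SPA6
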