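import Cfsg.Agent.SPA6.Q2

/-!
# `SL_N(2)`: generation of `Q₀` and of the whole group, fixed points on `Q₀ / R₀`
-/

set_option autoImplicit false
set_option linter.unusedSectionVars false
set_option linter.unusedVariables false

namespace Cfsg.Lib.SPA6

open Subgroup Matrix Cfsg.Lib.Trans Cfsg.Lib.Gold Cfsg.Lib.Chev Cfsg.Lib.Known Cfsg.Lib.Class
  Cfsg.Lib.Class.Form Cfsg.Lib.Class.FAut
open Cfsg.Lib.UM6 (tT tE Ot)
open Cfsg.Lib.SP7 (Mo O3 H1 TH T1 T3 G1 G2)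
open Cfsg.Lib.SLA (I SLd Vc Par Md Ind El Fx Inr Ty IsTv ac gr lst z0 e0 f0 U0 P0 Q0 R0 V0 V1)
open Cfsg.Lib.SG2 (Uq Top)
open scoped commutatorElement

variable {d : ℕ} {F : Type*} [Field F] [Finite F] {v b : SLd d F} {N : Subgroup (SLd d F)}

open Q2

namespace Q5

theorem cL {p n : SLd d F} (hp : p ∈ Ns N) (hn : n ∈ N) : ⁅p, n⁆ ∈ N :=
  mul_mem (mem_normalizer_conj hp hn) (inv_mem hn)

theorem cR {p n : SLd d F} (hp : p ∈ Ns N) (hn : n ∈ N) : ⁅n, p⁆ ∈ N := by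
  rw [← commutatorElement_inv]; exact inv_mem (cL hp hn)

theorem cm {p x y : SLd d F} (c : p * y = y * p) : ⁅p, x * y⁆ = ⁅p, x⁆ := by
  rw [commutatorElement_def, commutatorElement_def]
  calc _ = p * x * p⁻¹ * (p * y) * p⁻¹ * y⁻¹ * x⁻¹ := by group
    _ = _ := by rw [c]; group

theorem all (h : P2 d F) {i j : I d} (n : i ≠ j) (k : slE i j (1 : F) ∈ N) (s : F) :
    slE i j s ∈ N := by
  rcases h.q2 s with rfl | rfl
  · rw [stA_slE.zero n]; exact one_mem _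
  · exact k

theorem ex (h : P2 d F) (a c : I d) : ∃ e : I d, Mi e ∧ e ≠ a ∧ e ≠ c := by
  have := h.three
  obtain ⟨e, h1, h2, h3, h4⟩ := SLA.PF_ex3 a.val c.val
  exact ⟨⟨e, by omega⟩, ⟨Fin.ne_of_val_ne (by rw [Fin.val_zero]; show e ≠ 0; omega),
    Fin.ne_of_val_ne (by rw [Fin.val_last]; show e ≠ _; omega)⟩, Fin.ne_of_val_ne h3,
    Fin.ne_of_val_ne h4⟩

theorem van (h : Par d F) {c e : I d} (n : c ≠ e) (hc : Mi c) (he : Mi e) {f w : Vc d F}
    (hf : f 0 = 0) (hw : w (lst d) = 0)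
    (k : ⁅slE c e (1 : F), tvS (e0 d F) f * tvS w (f0 d F)⁆ ∈ R0 d F) : f c = 0 ∧ w e = 0 := by
  obtain ⟨s, e1⟩ := (SLA.mem_Rt SLA.zero_ne_lst).1 k
  have a0 : (Pi.single (lst d) s : Vc d F) 0 = 0 := Pi.single_eq_of_ne SLA.zero_ne_lst _
  have a1 : (f + f c • Pi.single e 1 : Vc d F) 0 = 0 := by
    rw [Pi.add_apply, hf, Pi.smul_apply, Pi.single_eq_of_ne he.1.symm, smul_zero, add_zero]
  have a2 : (w + w e • Pi.single c 1 : Vc d F) (lst d) = 0 := by
    rw [Pi.add_apply, hw, Pi.smul_apply, Pi.single_eq_of_ne hc.2.symm, smul_zero, add_zero]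
  have a3 : (Pi.single (lst d) s + f : Vc d F) 0 = 0 := by rw [Pi.add_apply, a0, hf, add_zero]
  rw [commutatorElement_def, mul_inv_eq_iff_eq_mul, Q2.cjE h n hc.2 he.1 hf hw,
    SLA.slE_eq_tvS SLA.zero_ne_lst, ← mul_assoc] at e1
  erw [← tvS_add_right (d0 a0) (d0 hf)] at e1
  have r := congrArg (fun g : SLd d F => g.1 0 e) e1
  have l := congrArg (fun g : SLd d F => g.1 c (lst d)) e1
  erw [ent_row a1 a2 he, ent_row a3 hw he] at r
  erw [ent_col a1 a2 hc, ent_col a3 hw hc] at l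
  rw [Pi.add_apply, Pi.add_apply, Pi.smul_apply, Pi.single_eq_same, Pi.single_eq_of_ne he.2, zero_add,
    smul_eq_mul, mul_one, add_eq_left] at r
  rw [Pi.add_apply, Pi.smul_apply, Pi.single_eq_same, smul_eq_mul, mul_one, add_eq_left] at l
  exact ⟨r, l⟩

theorem mid (h : P2 d F) {j : I d} {g : Vc d F} (k : ∀ c, Mi c → c ≠ j → g c = 0) (n : g j ≠ 0)
    (c : I d) (hc : Mi c) : (g + Pi.single j 1 : Vc d F) c = 0 := by
  by_cases e : c = j
  · rw [e, Pi.add_apply, Pi.single_eq_same, (h.q2 _).resolve_left n, one_add_one_eq_two, h.two]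
  · rw [Pi.add_apply, k c hc e, Pi.single_eq_of_ne e, add_zero]

end Q5

open Q5

theorem P2.nu (h : P2 d F) (h1 : P0 d F ≤ Ns N) (h2 : ua d F ∈ N) : Q0 d F ≤ N := by
  have := h.three
  have n1 : (1 : I d) ≠ lst d := Fin.ne_of_val_ne (by rw [v1, Fin.val_last]; omega)
  have n2 : (0 : I d) ≠ Fin.rev 1 := Fin.ne_of_val_ne (by rw [Fin.val_rev, v1, Fin.val_zero]; omega)
  have n3 : (2 : I d) ≠ 1 := Fin.ne_of_val_ne (by rw [v1, v2]; omega)
  have n4 : (2 : I d) ≠ lst d := Fin.ne_of_val_ne (by rw [v2, Fin.val_last]; omega)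
  have n5 : (1 : I d) ≠ 0 := Fin.ne_of_val_ne (by rw [v1, Fin.val_zero]; omega)
  have n6 : (2 : I d) ≠ 0 := Fin.ne_of_val_ne (by rw [v2, Fin.val_zero]; omega)
  have n7 : (2 : I d) ≠ Fin.rev 1 := Fin.ne_of_val_ne (by rw [Fin.val_rev, v1, v2]; omega)
  have n8 : (Fin.rev 1 : I d) ≠ lst d :=
    Fin.ne_of_val_ne (by rw [Fin.val_rev, v1, Fin.val_last]; omega)
  have k1 : slE 2 (lst d) (1 : F) ∈ N := by
    have e := cL (h1 (slE_mem_P n3 n4 n5 (1 : F))) h2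
    have c := (stA_slE.commute _ _ _ _ n3 n2 n5 n7 (1 : F) 1).eq
    rwa [ua, cm c, SLA.slE_comm n3 n1 n4, mul_one] at e
  have k2 : ∀ i, i ≠ lst d → ∀ s : F, slE i (lst d) s ∈ N := fun i hi s => by
    by_cases e : i = 2
    · rw [e]; exact all h n4 k1 s
    · rw [← mul_one s, ← SLA.slE_comm e n4 hi]
      exact cL (h1 (slE_mem_P e hi n6 s)) k1
  have k3 : slE 0 (Fin.rev 1) (1 : F) ∈ N := (mul_mem_cancel_left (k2 1 n1 1)).1 h2
  refine gen_Q N (fun j hj s => ?_) k2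
  by_cases e : Fin.rev 1 = j
  · rw [← e]; exact all h n2 k3 s
  · rw [← one_mul s, ← SLA.slE_comm n2 e hj.symm]
    exact cR (h1 (slE_mem_P e n8 hj s)) k3

theorem P2.gen (h : P2 d F) (k : ∀ l, l * z0 d F * l⁻¹ ∈ Q0 d F → cj l (Q0 d F) ≤ N) : N = ⊤ := by
  have := h.three
  have k1 : ∀ i j : I d, i ≠ j → j ≠ 0 → ∀ s : F, slE i j s ∈ N := fun i j n hj s => by
    obtain ⟨w, hw⟩ := h.exists_perm (Equiv.swap (lst d) j)
    have n' : Equiv.swap (lst d) j i ≠ lst d := fun e => n (by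
      rw [← Equiv.swap_apply_self (lst d) j i, e, Equiv.swap_apply_left])
    have e := hw _ _ n' s
    rw [Equiv.swap_apply_self, Equiv.swap_apply_left] at e
    refine k w ?_ (e ▸ conj_mem_cj.2 (slE_mem_Q n' (.inr rfl) s))
    rw [z0, hw _ _ SLA.zero_ne_lst, Equiv.swap_apply_of_ne_of_ne SLA.zero_ne_lst hj.symm,
      Equiv.swap_apply_left]
    exact slE_mem_Q hj.symm (.inl rfl) 1
  have k2 : ∀ i j : I d, i ≠ j → i ≠ lst d → ∀ s : F, slE i j s ∈ N := fun i j n hi s => by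
    obtain ⟨w, hw⟩ := h.exists_perm (Equiv.swap 0 i)
    have n' : 0 ≠ Equiv.swap 0 i j := fun e => n (by
      rw [← Equiv.swap_apply_self 0 i j, ← e, Equiv.swap_apply_left])
    have e := hw _ _ n' s
    rw [Equiv.swap_apply_self, Equiv.swap_apply_left] at e
    refine k w ?_ (e ▸ conj_mem_cj.2 (slE_mem_Q n' (.inl rfl) s))
    rw [z0, hw _ _ SLA.zero_ne_lst, Equiv.swap_apply_of_ne_of_ne SLA.zero_ne_lst.symm hi.symm,
      Equiv.swap_apply_left]
    exact slE_mem_Q hi (.inr rfl) 1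
  have n1 : (1 : I d) ≠ lst d := Fin.ne_of_val_ne (by rw [v1, Fin.val_last]; omega)
  have n5 : (1 : I d) ≠ 0 := Fin.ne_of_val_ne (by rw [v1, Fin.val_zero]; omega)
  refine closure_slE N fun i j n s => ?_
  by_cases hj : j = 0
  · by_cases hi : i = lst d
    · rw [hi, hj, ← mul_one s, ← SLA.slE_comm n1.symm n5 SLA.zero_ne_lst.symm,
        commutatorElement_def]
      have a := k1 _ _ n1.symm n5 s
      have c := k2 _ _ n5 n1 (1 : F)
      exact mul_mem (mul_mem (mul_mem a c) (inv_mem a)) (inv_mem c)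
    · exact k2 i j n hi s
  · exact k1 i j n hj s

theorem P2.fixR (h : P2 d F) {j : I d} (hj : Mi j) (hv : v = slE 0 j 1 ∨ v = slE j (lst d) 1)
    (hb : b ∈ Q0 d F) (k : ∀ p ∈ P0 d F, Commute p v → ⁅p, b⁆ ∈ R0 d F) :
    b ∈ R0 d F ∨ b * v⁻¹ ∈ R0 d F := by
  obtain ⟨f, w, hf, hw, rfl⟩ := h.toPar.mem_Q.1 hb
  have a0 : (Pi.single j 1 : Vc d F) 0 = 0 := Pi.single_eq_of_ne hj.1.symm _
  have a1 : (Pi.single j 1 : Vc d F) (lst d) = 0 := Pi.single_eq_of_ne hj.2.symm _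
  rcases hv with rfl | rfl
  · have t : ∀ c e, c ≠ e → Mi c → Mi e → c ≠ j → f c = 0 ∧ w e = 0 := fun c e n hc he n' =>
      van h.toPar n hc he hf hw (k _ (slE_mem_P n hc.2 he.1 1)
        (stA_slE.commute _ _ _ _ n hj.1.symm he.1 n' 1 1))
    have t1 : ∀ c, Mi c → c ≠ j → f c = 0 := fun c hc n => by
      obtain ⟨e, he, n', -⟩ := ex h c c
      exact (t c e n'.symm hc he n).1
    have t2 : ∀ e, Mi e → w e = 0 := fun e he => by
      obtain ⟨c, hc, n, n'⟩ := ex h e j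
      exact (t c e n hc he n').2
    by_cases n : f j = 0
    · exact .inl (mul_mem (memR0 hf fun c hc => if e : c = j then e ▸ n else t1 c hc e) (memR1 hw t2))
    · refine .inr ?_
      rw [inv_slE h.toPar hj.1.symm, SLA.slE_eq_tvS hj.1.symm, mul_assoc]
      erw [tvS_commute (d1 hw) (d0 a0) SLA.PF_f0_e0 (by rw [single_dotProduct, t2 j hj, mul_zero]),
        ← mul_assoc, ← tvS_add_right (d0 hf) (d0 a0)]
      exact mul_mem (memR0 (by rw [Pi.add_apply, hf, a0, add_zero]) (mid h t1 n)) (memR1 hw t2)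
  · have t : ∀ c e, c ≠ e → Mi c → Mi e → e ≠ j → f c = 0 ∧ w e = 0 := fun c e n hc he n' =>
      van h.toPar n hc he hf hw (k _ (slE_mem_P n hc.2 he.1 1)
        (stA_slE.commute _ _ _ _ n hj.2 n' hc.2 1 1))
    have t1 : ∀ e, Mi e → e ≠ j → w e = 0 := fun e he n => by
      obtain ⟨c, hc, n', -⟩ := ex h e e
      exact (t c e n' hc he n).2
    have t2 : ∀ c, Mi c → f c = 0 := fun c hc => by
      obtain ⟨e, he, n, n'⟩ := ex h c j
      exact (t c e n.symm hc he n').1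
    by_cases n : w j = 0
    · exact .inl (mul_mem (memR0 hf t2) (memR1 hw fun c hc => if e : c = j then e ▸ n else t1 c hc e))
    · refine .inr ?_
      rw [inv_slE h.toPar hj.2, SLA.slE_eq_tvS hj.2, mul_assoc]
      erw [← tvS_add_left (d1 hw) (d1 a1)]
      exact mul_mem (memR0 hf t2) (memR1 (by rw [Pi.add_apply, hw, a1, add_zero]) (mid h t1 n))

end Cfsg.Lib.SPA6
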