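import Cfsg.Agent.SP7.K1
import Cfsg.Agent.SLA.Md
import Cfsg.Agent.Class.SpOrder

/-!
# Standard subgroups of type `Sp_{2k}(2ⁿ)`: the linear overgroups, definitions
-/

set_option autoImplicit false
set_option linter.unusedSectionVars false

noncomputable section

namespace Cfsg.Lib.SPA6

open Subgroup Matrix Cfsg.Lib.Trans Cfsg.Lib.Gold Cfsg.Lib.Chev Cfsg.Lib.Class Cfsg.Lib.Class.Form
  Cfsg.Lib.Class.FAut
open Cfsg.Lib.UM6 (tT tE)
open Cfsg.Lib.SP7 (O3 H1)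
open Cfsg.Lib.SLA (I SLd Vc Par Md Ind El gr lst z0)
open scoped commutatorElement

section Sp

variable {G F M : Type*} [Group G] [Field F] [AddCommGroup M] [Module F M]
  {B : M →ₗ[F] M →ₗ[F] F}

/-- The candidate for the transvection `z ↦ z + B(w, z) u` of `SL(M)`. -/
def Ax (φ : sIsom B →* G) (H : M → M → G) (c : F) (u w : M) : G := H w u * φ (tE B w (c • u))

theorem Ax_eq_1' : type_of% @Ax.eq_1 := @Ax.eq_1

/-- Elements which behave like the transvections of `SL(M)`. -/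
structure HA (φ : sIsom B →* G) (t : G) (A : M → M → G) : Prop extends H1 φ t where
  add1 : ∀ w u x, O3 B w u x → A (u + x) w = A u w * A x w
  add2 : ∀ u w x, O3 B u w x → A u (w + x) = A u w * A u x
  sw : ∀ (a : F) u w, B u w = 0 → A (a • u) w = A u (a • w)
  eqv : ∀ g u w, B u w = 0 → φ g * A u w * (φ g)⁻¹ = A (lin g u) (lin g w)
  cc : ∀ u w x y, O3 B u w x → B u y = 0 → B w y = 0 → Commute (A u x) (A w y)
  resE : ∀ u w, B u w = 0 → φ (tE B u w) = A u w * A w u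
  resT : ∀ u (a : F), φ (tT B u a) = A (a • u) u
  act : ∀ u w, B u w = 0 → t * A u w * t⁻¹ = A w u

/-- A symplectic basis indexed so that `v i` is paired with `v (rev i)`. -/
structure SB (B : M →ₗ[F] M →ₗ[F] F) {d : ℕ} (v : I d → M) : Prop where
  form : ∀ a b, B (v a) (v b) = if b = a.rev then 1 else 0
  ext : ∀ u, (∀ a, B (v a) u = 0) → u = 0

/-- `ψ` is the homomorphism defined by the `A u w`. -/
structure L1 {d : ℕ} (φ : sIsom B →* G) (t : G) (A : M → M → G) (v : I d → M)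
    (ψ : SLd d F →* G) : Prop extends HA φ t A where
  sb : SB B v
  dim : d + 3 = 2 * UM6.kk F M
  res : ∀ i j, i ≠ j → ∀ s, ψ (slE i j s) = A (s • v i) (v j.rev)

end Sp

section SL

variable {G : Type*} [Group G] {d : ℕ} {F : Type*} [Field F]

/-- An incident point-hyperplane pair. -/
structure Pr (x f : Vc d F) : Prop where
  x0 : x ≠ 0
  f0 : f ≠ 0
  fx : f ⬝ᵥ x = 0

/-- Two pairs in general incident position. -/
structure Gn (x f y g : Vc d F) : Prop where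
  xy : LinearIndependent F ![x, y]
  fg : LinearIndependent F ![f, g]
  fx : f ⬝ᵥ x = 0
  fy : f ⬝ᵥ y = 0
  gx : g ⬝ᵥ x = 0
  gy : g ⬝ᵥ y = 0

/-- The second basis covector from the end. -/
def f1 (d : ℕ) (F : Type*) [Field F] : Vc d F := Pi.single (Fin.rev 1) 1

/-- The second basis vector. -/
def e1 (d : ℕ) (F : Type*) [Field F] : Vc d F := Pi.single 1 1

theorem f1_eq_1' : type_of% @f1.eq_1 := @f1.eq_1
theorem e1_eq_1' : type_of% @e1.eq_1 := @e1.eq_1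

/-- A graph involution acting on an image of `SL_N(F)`, `N ≥ 6`. -/
structure GI (ψ : SLd d F →* G) (t : G) : Prop extends Md ψ where
  three : 3 ≤ d
  t2 : t * t = 1
  act : Ind ψ t (gr d F)

/-- The long elements, extended to all incident pairs. -/
structure DL (ψ : SLd d F →* G) (t : G) (c : F) (D : Vc d F → Vc d F → G) : Prop
    extends GI ψ t where
  eqv : ∀ g x f, Pr x f → ψ g * D x f * (ψ g)⁻¹ = D (g.1 *ᵥ x) (f ᵥ* (g⁻¹).1)
  sq : ∀ x f, Pr x f → D x f * D x f = ψ (tvS x f)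
  tD : ∀ x f, Pr x f → t * D x f * t⁻¹ = (D (f ∘ Fin.rev) (x ∘ Fin.rev))⁻¹
  add : ∀ x f y g, Gn x f y g →
    D (x + y) (f + g) = D x f * D y g * ψ (tvS x ((c + 1) • g)) * ψ (tvS y (c • f))

/-- The new row and column groups. -/
structure PR (ψ : SLd d F →* G) (t : G) (P R : Vc d F → G) : Prop extends GI ψ t where
  pe : ∀ g w, ψ g * P w * (ψ g)⁻¹ = P (g.1 *ᵥ w)
  re : ∀ g f, ψ g * R f * (ψ g)⁻¹ = R (f ᵥ* (g⁻¹).1)
  pa : ∀ w w', P (w + w') = P w * P w'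
  ra : ∀ f f', R (f + f') = R f * R f'
  pr : ∀ w f, f ⬝ᵥ w = 0 → P w * R f = ψ (tvS w f) * R f * P w
  tP : ∀ w, t * P w * t⁻¹ = R (w ∘ Fin.rev)

/-- The linear end. -/
structure EL (ψ : SLd d F →* G) (t : G) (k : ℕ) : Prop extends GI ψ t where
  t1 : t ≠ 1
  nL : C1 t ≤ Ns ψ.range
  odd : Odd (Nat.card (Cs ψ.range))
  dim : d + 3 = 2 * k ∨ d + 3 = 2 * k + 1
  rank : ∀ (g : G) (A : Subgroup G), El A → A ≤ C1 (g * t * g⁻¹) →
    Nat.card A ≤ 2 * Nat.card F ^ (k * (k + 1) / 2)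
  perf : ∀ (g : G) (Y : Subgroup G), ⁅Y, Y⁆ = Y → Y ≤ C1 (g * t * g⁻¹) →
    Nat.card Y ∣ spOrd (Nat.card F) k
  nb : Odd d → ¬ IsConj t (t * ψ (z0 d F))

/-- The parameters `q = 2`, `N ≥ 6`. -/
structure P2 (d : ℕ) (F : Type*) [Field F] : Prop extends Par d F where
  three : 3 ≤ d
  q2 : ∀ c : F, c = 0 ∨ c = 1

/-- The middle indices. -/
def Mi (a : I d) : Prop := a ≠ 0 ∧ a ≠ lst d

/-- `gr x * x⁻¹` for `x = x_{0, N-2}(1)`. -/
def ua (d : ℕ) (F : Type*) [Field F] : SLd d F := slE 1 (lst d) 1 * slE 0 (Fin.rev 1) 1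

/-- `gr x * x⁻¹` for `x = x_{1, N-3}(1)`. -/
def wa (d : ℕ) (F : Type*) [Field F] : SLd d F := slE 2 (Fin.rev 1) 1 * slE 1 (Fin.rev 2) 1

theorem Mi_eq_1' : type_of% @Mi.eq_1 := @Mi.eq_1
theorem ua_eq_1' : type_of% @ua.eq_1 := @ua.eq_1
theorem wa_eq_1' : type_of% @wa.eq_1 := @wa.eq_1

end SL

end Cfsg.Lib.SPA6

end
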