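import Cfsg.Agent.SPA6.Defs
import Cfsg.Agent.SLA.PV
import Mathlib.GroupTheory.Nilpotent

/-!
# Normal subgroups of the Sylow 2-subgroup of `SL_N(2)` with few involutions
-/

set_option autoImplicit false
set_option linter.unusedSectionVars false
set_option linter.unusedVariables false

namespace Cfsg.Lib.SPA6

open Subgroup Matrix Cfsg.Lib.Trans Cfsg.Lib.Gold Cfsg.Lib.Chev Cfsg.Lib.Known Cfsg.Lib.Class
open Cfsg.Lib.SLA (I SLd Vc Par Md Ind El Fx Inr Ty IsTv ac gr lst z0 e0 f0 U0 P0 Q0 R0 V0 V1)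
open scoped commutatorElement

section Q2
variable {d : ℕ} {F : Type*} [Field F] [Finite F] {v b : SLd d F} {N : Subgroup (SLd d F)}

namespace Q3

theorem slE_mul {a c : I d} (h : a ≠ c) (s : F) (n : SLd d F) (i j : I d) :
    (slE a c s * n).1 i j = n.1 i j + if i = a then s * n.1 c j else 0 := by
  rw [SLA.val_mul, coe_slE h, add_mul, one_mul, Matrix.add_apply]
  by_cases e : i = a
  · rw [if_pos e, e, single_mul_apply_same]
  · rw [if_neg e, single_mul_apply_of_ne (h := e)]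

theorem mul_slE {a c : I d} (h : a ≠ c) (s : F) (n : SLd d F) (i j : I d) :
    (n * slE a c s).1 i j = n.1 i j + if j = c then n.1 i a * s else 0 := by
  rw [SLA.val_mul, coe_slE h, mul_add, mul_one, Matrix.add_apply]
  by_cases e : j = c
  · rw [if_pos e, e, mul_single_apply_same]
  · rw [if_neg e, mul_single_apply_of_ne (hbj := e)]

theorem V0_mul {x : SLd d F} (hx : x ∈ V0 d F) (y : SLd d F) {i : I d} (hi : i ≠ 0) (j : I d) :
    (x * y).1 i j = y.1 i j := by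
  obtain ⟨f, h1, rfl⟩ := SLA.mem_V0.1 hx
  rw [SLA.val_mul, tvS_coe ((SLA.dot_e0 f).trans h1), add_mul, one_mul, vecMulVec_mul, Matrix.add_apply,
    vecMulVec_apply, e0, Pi.single_eq_of_ne hi, zero_mul, add_zero]

theorem V1_mul {x y : SLd d F} (hx : x ∈ V1 d F) (hy : y ∈ SLA.St1 d F) (i : I d) {j : I d}
    (hj : j ≠ lst d) : (x * y).1 i j = y.1 i j := by
  obtain ⟨w, h1, rfl⟩ := SLA.mem_V1.1 hx
  rw [SLA.val_mul, tvS_coe ((SLA.f0_dot w).trans h1), add_mul, one_mul, vecMulVec_mul, Matrix.add_apply,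
    vecMulVec_apply, SLA.mem_St1.1 hy, f0, Pi.single_eq_of_ne hj, mul_zero, add_zero]

theorem mul_V0 {x y : SLd d F} (hx : x ∈ V0 d F) (hy : y ∈ SLA.St0 d F) {i : I d} (hi : i ≠ 0)
    (j : I d) : (y * x).1 i j = y.1 i j := by
  obtain ⟨f, h1, rfl⟩ := SLA.mem_V0.1 hx
  rw [SLA.val_mul, tvS_coe ((SLA.dot_e0 f).trans h1), mul_add, mul_one, mul_vecMulVec, Matrix.add_apply,
    vecMulVec_apply, SLA.mem_St0.1 hy, e0, Pi.single_eq_of_ne hi, zero_mul, add_zero]

theorem Q_mul (h : Par d F) {q y : SLd d F} (hq : q ∈ Q0 d F) (hy : y ∈ P0 d F) {i j : I d}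
    (hi : Mi i) (hj : Mi j) : (q * y).1 i j = y.1 i j := by
  obtain ⟨f, w, h1, h2, rfl⟩ := h.mem_Q.1 hq
  rw [mul_assoc, V0_mul (SLA.mem_V0.2 ⟨f, h1, rfl⟩) _ hi.1,
    V1_mul (SLA.mem_V1.2 ⟨w, h2, rfl⟩) hy.2 _ hj.2]

theorem mem_Q (hv : v ∈ P0 d F)
    (e : ∀ i j, Mi i → Mi j → v.1 i j = (1 : Matrix (I d) (I d) F) i j) : v ∈ Q0 d F := by
  obtain ⟨x, hx, y, hy, k⟩ := SLA.PF_dec hv
  have hx' : x ∈ P0 d F := SLA.U_le_P (SLA.Aj_le_U _ hx)
  have : y * (v * x) = 1 := Subtype.ext (Matrix.ext fun i j => by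
    by_cases m : Mi i ∧ Mi j
    · rw [V1_mul hy (mul_mem hv hx').2 _ m.2.2, mul_V0 hx hv.1 m.1.1, e i j m.1 m.2]; rfl
    · exact k i j (not_and_or.1 m))
  rw [show v = y⁻¹ * (y * (v * x)) * x⁻¹ by group, this, mul_one]
  exact mul_mem (inv_mem (mem_sup_right hy)) (inv_mem (mem_sup_left hx))

theorem R_mul {r y : SLd d F} (hr : r ∈ R0 d F) (hy : y ∈ P0 d F) {i j : I d}
    (k : i ≠ 0 ∨ j ≠ lst d) : (r * y).1 i j = y.1 i j := by
  have := SLA.V0_inf_V1.ge hr
  exact k.elim (fun k => V0_mul this.1 _ k _) fun k => V1_mul this.2 hy.2 _ k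

/-- The entries of `n` when `x_{ac}(1)` and `n` commute at some positions. -/
theorem ent {n : SLd d F} {a c : I d} (h : a ≠ c) (T : I d → I d → Prop)
    (k : ∀ i j, T i j → (slE a c 1 * n).1 i j = (n * slE a c 1).1 i j) :
    (∀ i, i ≠ a → T i c → n.1 i a = 0) ∧ ∀ j, j ≠ c → T a j → n.1 c j = 0 := by
  refine ⟨fun i hi t => ?_, fun j hj t => ?_⟩
  · have := k i c t
    rwa [slE_mul h, mul_slE h, if_neg hi, if_pos rfl, mul_one, add_right_inj, eq_comm] at this
  · have := k a j t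
    rwa [slE_mul h, mul_slE h, if_neg hj, if_pos rfl, one_mul, add_right_inj] at this

end Q3

theorem desc {G : Type*} [Group G] [Finite G] {U N Q : Subgroup G} (hU : IsPGroup 2 U) (h2 : N ≤ U)
    (h3 : U ≤ Ns N) (hz : ∀ n ∈ N, (∀ u ∈ U, ⁅u, n⁆ ∈ Q) → n ∈ Q) : N ≤ Q := by
  have := hU.isNilpotent
  have key : ∀ j, ∀ n : U, n.1 ∈ N → n ∈ Subgroup.upperCentralSeries U j → n.1 ∈ Q := fun j => by
    induction j with
    | zero =>
      intro n _ k
      rw [Subgroup.upperCentralSeries_zero, mem_bot] at k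
      rw [k]; exact one_mem _
    | succ j ih =>
      intro n hn k
      refine hz _ hn fun u hu => ih ⁅(⟨u, hu⟩ : U), n⁆ ?_ ?_
      · exact mul_mem ((mem_normalizer_iff.1 (h3 hu) _).1 hn) (inv_mem hn)
      · rw [← commutatorElement_inv]
        exact inv_mem (Subgroup.mem_upperCentralSeries_succ_iff.1 k _)
  intro n hn
  exact key _ ⟨n, h2 hn⟩ hn (Subgroup.upperCentralSeries_nilpotencyClass (G := U) ▸ mem_top _)

theorem P2.f7Q (h : P2 d F) (h1 : Q0 d F ≤ N) (h2 : N ≤ U0 d F) (h3 : U0 d F ≤ Ns N)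
    (h4 : ∀ v ∈ N, v * v = 1 → v ∈ Q0 d F) : N = Q0 d F := by
  refine le_antisymm (desc h.toPar.U_syl.2.1 h2 h3 fun n hn k => ?_) h1
  have d3 := h.three
  have hU := h2 hn
  have hP := SLA.U_le_P hU
  have key : ∀ a c : I d, a < c → (∀ i, i ≠ a → Mi i ∧ Mi c → n.1 i a = 0) ∧
      ∀ j, j ≠ c → Mi a ∧ Mi j → n.1 c j = 0 := fun a c hac =>
    Q3.ent hac.ne (fun i j => Mi i ∧ Mi j) fun i j t => by
      have u := SLA.slE_mem_U (F := F) hac 1
      rw [← Q3.Q_mul h.toPar (k _ u) (mul_mem hP (SLA.U_le_P u)) t.1 t.2, commutatorElement_def]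
      group
  have m : ∀ i : I d, Mi i ↔ 1 ≤ i.val ∧ i.val ≤ d + 1 := fun i => by
    have := i.2
    simp only [Mi, Ne, Fin.ext_iff, Fin.val_zero, Fin.val_last]
    omega
  have off : ∀ i j, Mi i → Mi j → i ≠ j → 2 ≤ i.val ∨ j.val ≤ d → n.1 i j = 0 :=
    fun i j hi hj ij t => by
      have a := (m i).1 hi
      have b := (m j).1 hj
      rcases t with t | t
      · exact (key ⟨i.val - 1, by omega⟩ i (Fin.lt_def.2 (by simp only; omega))).2 j ij.symm
          ⟨(m _).2 (by simp only; omega), hj⟩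
      · exact (key j ⟨j.val + 1, by omega⟩ (Fin.lt_def.2 (by simp only; omega))).1 i ij
          ⟨hi, (m _).2 (by simp only; omega)⟩
  let a : I d := ⟨1, by omega⟩
  let c : I d := ⟨d + 1, by omega⟩
  have ac : a < c := Fin.lt_def.2 (by simp only [a, c]; omega)
  have hx := SLA.slE_mem_U ac (n.1 a c)
  have hq : slE a c (n.1 a c) * n ∈ Q0 d F := Q3.mem_Q (SLA.U_le_P (mul_mem hx hU)) fun i j hi hj => by
    have hi' := (m i).1 hi
    have hj' := (m j).1 hj
    have hc : Mi c := (m _).2 (by simp only [c]; omega)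
    rw [Q3.slE_mul ac.ne]
    by_cases ij : i = j
    · subst ij
      rw [one_apply_eq, (mem_uniTri.1 hU).2]
      split_ifs with e
      · rw [e, off c a hc (e ▸ hi) ac.ne' (.inl (by simp only [c]; omega)), mul_zero, add_zero]
      · rw [add_zero]
    rw [one_apply_ne ij]
    split_ifs with e
    · by_cases jc : j = c
      · rw [e, jc, (mem_uniTri.1 hU).2, mul_one, h.toPar.add_self]
      · rw [off c j hc hj (Ne.symm jc) (.inl (by simp only [c]; omega)), mul_zero, add_zero]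
        refine off i j hi hj ij (.inr ?_)
        have : j.val ≠ d + 1 := fun e => jc (Fin.ext e)
        omega
    · rw [add_zero]
      refine off i j hi hj ij (.inl ?_)
      have : i.val ≠ 1 := fun e' => e (Fin.ext e')
      omega
  have hx' := h4 _ ((mul_mem_cancel_right hn).1 (h1 hq)) (h.toPar.slE_sq ac.ne _)
  exact (mul_mem_cancel_left hx').1 hq

theorem P2.f7R (h : P2 d F) (h1 : R0 d F ≤ N) (h2 : N ≤ U0 d F) (h3 : U0 d F ≤ Ns N)
    (h4 : ∀ v ∈ N, v * v = 1 → v ∈ R0 d F) : N = R0 d F := by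
  refine le_antisymm (desc h.toPar.U_syl.2.1 h2 h3 fun n hn k => h4 n hn ?_) h1
  have d3 := h.three
  have hU := h2 hn
  have hP := SLA.U_le_P hU
  have key : ∀ a c : I d, a < c → (∀ i, i ≠ a → i ≠ 0 ∨ c ≠ lst d → n.1 i a = 0) ∧
      ∀ j, j ≠ c → a ≠ 0 ∨ j ≠ lst d → n.1 c j = 0 := fun a c hac =>
    Q3.ent hac.ne (fun i j => i ≠ 0 ∨ j ≠ lst d) fun i j t => by
      have u := SLA.slE_mem_U (F := F) hac 1
      rw [← Q3.R_mul (k _ u) (mul_mem hP (SLA.U_le_P u)) t, commutatorElement_def]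
      group
  refine h.toPar.el_AW (SLA.Wj d F 2) n (SLA.mem_Aj.2 fun i j t => ?_)
  by_cases ij : i = j
  · rw [ij, one_apply_eq, (mem_uniTri.1 hU).2]
  rw [one_apply_ne ij]
  have := i.2
  rcases t with t | t
  · exact (key ⟨i.val - 1, by omega⟩ i (Fin.lt_def.2 (by simp only; omega))).2 j (Ne.symm ij)
      (.inl fun e => by have := congrArg Fin.val e; simp only [Fin.val_zero] at this; omega)
  · exact (key j ⟨j.val + 1, by omega⟩ (Fin.lt_def.2 (by simp only; omega))).1 i ij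
      (.inr fun e => by have := congrArg Fin.val e; simp only [Fin.val_last] at this; omega)

end Q2

end Cfsg.Lib.SPA6
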