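import Cfsg.Agent.SPA6.Defs
import Cfsg.Agent.SLA.ZS1

/-! The subfield subgroup in the fixed points of a field involution. -/

set_option autoImplicit false
set_option linter.unusedSectionVars false
set_option linter.unusedVariables false

namespace Cfsg.Lib.SPA6

open Subgroup Matrix Cfsg.Lib.Trans Cfsg.Lib.Gold Cfsg.Lib.Chev Cfsg.Lib.Known Cfsg.Lib.Class
  Cfsg.Lib.Class.Form Cfsg.Lib.Class.FAut
open Cfsg.Lib.UM6 (tT tE Ot)
open Cfsg.Lib.SLA (I SLd Vc Par Md Ind El Fx Inr Ty IsTv ac gr lst z0 e0 f0 U0 P0 Q0 R0 V0 V1)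
open scoped commutatorElement

section Aut
variable {d k : ℕ} {F : Type*} [Field F] [Finite F] {β : MulAut (SLd d F)} {σ : F ≃+* F}

theorem zs_fin {q r : ℕ} (hq : Nat.card F = q ^ 2) (hr : r.Prime) {n : ℕ} (hk : 3 ≤ k)
    (ho : orderOf (q : ZMod r) = n) (n0 : 0 < n) (hn : 2 * k - 1 ∣ n) {Y : Subgroup (SLd d F)}
    (hY : r ∣ Nat.card Y) :
    ∃ y ∈ Y, y ∉ center (SLd d F) ∧ (orderOf y).Coprime (spOrd (Nat.card F) k) := by
  have := Fact.mk hr
  have := Fintype.ofFinite F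
  have q1 : 1 ≤ q := Nat.pos_of_ne_zero fun e => by
    have : 0 < Nat.card F := Nat.card_pos
    rw [hq, e] at this
    omega
  obtain ⟨y, hy⟩ := exists_prime_orderOf_dvd_card' r hY
  rw [← orderOf_coe] at hy
  refine ⟨y, y.2, fun hz => ?_, ?_⟩
  · obtain ⟨c, c1, c2⟩ := Matrix.SpecialLinearGroup.mem_center_iff.1 hz
    have c0 : c ≠ 0 := by rintro rfl; simp at c1
    have h1 : y.1 ^ (q ^ 2 - 1) = 1 := Subtype.ext (by
      rw [Matrix.SpecialLinearGroup.coe_pow, ← c2, ← map_pow, ← hq, Nat.card_eq_fintype_card,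
        FiniteField.pow_card_sub_one_eq_one c c0, map_one, Matrix.SpecialLinearGroup.coe_one])
    have := Nat.le_of_dvd two_pos
      (hn.trans ((SLA.ZS1.dvd_iff q1 ho 2).1 (hy ▸ orderOf_dvd_of_pow_eq_one h1)))
    omega
  · rw [hy, hr.coprime_iff_not_dvd, spOrd, hr.dvd_mul, hq]
    rintro (e | e)
    · rw [(ZMod.natCast_eq_zero_iff _ _).2 (hr.dvd_of_dvd_pow (hr.dvd_of_dvd_pow e)),
        orderOf_zero] at ho
      omega
    · obtain ⟨j, hj, e⟩ := (Nat.Prime.prime hr).exists_mem_finset_dvd e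
      rw [← pow_mul, ← mul_assoc] at e
      have h4 : (2 * k - 1).Coprime (2 * 2) := by
        have : (2 * k - 1).Coprime 2 := Nat.coprime_two_right.2 ⟨k - 1, by omega⟩
        exact this.mul_right this
      have := Nat.le_of_dvd (by omega)
        (h4.dvd_of_dvd_mul_left (hn.trans ((SLA.ZS1.dvd_iff q1 ho _).1 e)))
      rw [Finset.mem_range] at hj
      omega

theorem zs_field (h : Par d F) (hk : 3 ≤ k) (hd : 2 * k ≤ d + 3) (h2 : β * β = 1)
    (h1 : Ty β σ false) (hσ : σ ≠ 1) : ∃ Y ≤ Fx β, ⁅Y, Y⁆ = Y ∧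
      ∃ y ∈ Y, y ∉ center (SLd d F) ∧ (orderOf y).Coprime (spOrd (Nat.card F) k) := by
  have : Fact (Nat.Prime 2) := ⟨Nat.prime_two⟩
  have ho : orderOf σ = 2 := orderOf_eq_prime (by rw [sq, h1.sq' h h2]) hσ
  have : Finite (F ≃+* F) :=
    Finite.of_injective (fun σ : F ≃+* F => (σ : F → F)) DFunLike.coe_injective
  let K := FixedPoints.subfield (zpowers σ) F
  have hc : Nat.card F = Nat.card K ^ 2 := by
    have := Fintype.ofFinite (zpowers σ)
    rw [Module.natCard_eq_pow_finrank (K := K), FixedPoints.finrank_eq_card,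
      ← Nat.card_eq_fintype_card, Nat.card_zpowers, ho]
  have q2 : 2 ≤ Nat.card K := Finite.one_lt_card
  obtain ⟨r, hr, hn⟩ := zsigmondy (a := Nat.card K) (n := 2 * k - 1) q2 (by omega) (by omega)
    (by omega)
  obtain ⟨c, hc'⟩ := h.nf_semi h2 h1 hσ
  have : ∃ Y ≤ Fx β, ⁅Y, Y⁆ = Y ∧ r ∣ Nat.card Y := by
    rw [hc']
    have inj : Function.Injective (SpecialLinearGroup.map (n := I d) K.subtype) := fun a b e =>
      Subtype.ext (Matrix.ext fun i j => Subtype.ext (congrFun (congrFun (congrArg Subtype.val e) i) j))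
    refine SLA.ZS1.conj _ ⟨(SpecialLinearGroup.map K.subtype).range, ?_, ?_, ?_⟩
    · rintro _ ⟨A, rfl⟩
      refine SLA.mem_Fx.2 (Subtype.ext ?_)
      rw [SLA.au_false, coe_fieldSL]
      ext i j
      exact (A.1 i j).2 ⟨σ, mem_zpowers σ⟩
    · rw [MonoidHom.range_eq_map, ← map_commutator, SLA.sl_perf]
    · have := Fintype.ofFinite K
      rw [← Nat.card_congr (MonoidHom.ofInjective inj).toEquiv, card_SL_eq_range,
        ← Nat.card_eq_fintype_card (α := K), Fintype.card_fin]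
      refine Dvd.dvd.mul_left (Dvd.dvd.trans ?_ (Finset.dvd_prod_of_mem _
        (Finset.mem_range.2 (show 2 * k - 3 < d + 3 - 1 by omega)))) _
      rw [SLA.ZS1.dvd_iff (by omega) hn]
      exact dvd_of_eq (by omega)
  obtain ⟨Y, e1, e2, e3⟩ := this
  exact ⟨Y, e1, e2, zs_fin hc hr hk hn (by omega) dvd_rfl e3⟩

end Aut

end Cfsg.Lib.SPA6
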